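import Groth.Agent.GIT.K653.OpenFib
import Groth.Agent.HopfRep.K189.Antipode
import Groth.Agent.HopfRep.K187.Integral

/-!
# Algebras with a coaction and an invariant integral: a rigidity lemma

`rigid`: `L → E` surjective equivariant with kernel generated by an idempotent; if the Reynolds operator of `L` has
values in the scalars and factors through `E`, then `L → E` is injective.
-/

set_option autoImplicit false
open scoped TensorProduct

namespace K653.Coac

variable (k : Type*) {C : Type*} [CommRing k] [CommRing C] [HopfAlgebra k C]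

section Def

variable {M N : Type*} [CommRing M] [Algebra k M] [CommRing N] [Algebra k N]

variable {k}

/-- `m ⊗ c ↦ ρ(m) (1 ⊗ c)` -/
noncomputable def T (ρ : M →ₐ[k] M ⊗[k] C) : M ⊗[k] C →ₐ[k] M ⊗[k] C :=
  Algebra.TensorProduct.lift ρ Algebra.TensorProduct.includeRight fun _ _ => .all _ _

/-- `m ↦ (1 ⊗ S) ρ(m)` -/
noncomputable def T' (ρ : M →ₐ[k] M ⊗[k] C) : M →ₐ[k] M ⊗[k] C :=
  (Algebra.TensorProduct.map (AlgHom.id k M) (HopfAlgebra.antipodeAlgHom k C)).comp ρ

theorem T_tmul (ρ : M →ₐ[k] M ⊗[k] C) (m : M) (c : C) : T ρ (m ⊗ₜ c) = ρ m * (1 ⊗ₜ c) :=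
  Algebra.TensorProduct.lift_tmul _ _ _ _ _

/-- the inverse law `(m · c) · c⁻¹ = m` -/
def Star (ρ : M →ₐ[k] M ⊗[k] C) (m : M) : Prop := T ρ (T' ρ m) = m ⊗ₜ 1

/-- base change of a map along `C` -/
noncomputable abbrev ext (u : M →ₐ[k] N) : M ⊗[k] C →ₐ[k] N ⊗[k] C :=
  Algebra.TensorProduct.map u (AlgHom.id k C)

variable {ρ : M →ₐ[k] M ⊗[k] C} {ρN : N →ₐ[k] N ⊗[k] C} {u : M →ₐ[k] N}

theorem T_ext (h : ∀ m, ρN (u m) = ext u (ρ m)) (x : M ⊗[k] C) : T ρN (ext u x) = ext u (T ρ x) := by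
  induction x with
  | zero => simp
  | tmul m c => rw [ext, Algebra.TensorProduct.map_tmul, T_tmul, T_tmul, map_mul, h,
      Algebra.TensorProduct.map_tmul, map_one]
  | add x y hx hy => simp only [map_add, hx, hy]

theorem T'_ext (h : ∀ m, ρN (u m) = ext u (ρ m)) (m : M) : T' ρN (u m) = ext u (T' ρ m) := by
  rw [T', AlgHom.comp_apply, h, T', AlgHom.comp_apply]
  generalize ρ m = x
  induction x with
  | zero => simp
  | tmul m c => simp only [ext, Algebra.TensorProduct.map_tmul, AlgHom.coe_id, id_eq]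
  | add x y hx hy => simp only [map_add, hx, hy]

theorem star_map (h : ∀ m, ρN (u m) = ext u (ρ m)) {m : M} (hm : Star ρ m) : Star ρN (u m) := by
  rw [Star, T'_ext h, T_ext h, hm, ext, Algebra.TensorProduct.map_tmul, map_one]

theorem star_of_map (h : ∀ m, ρN (u m) = ext u (ρ m)) (hi : Function.Injective (ext (C := C) u)) {m : M}
    (hm : Star ρN (u m)) : Star ρ m := by
  apply hi
  rw [Star, T'_ext h, T_ext h] at hm
  rw [hm, ext, Algebra.TensorProduct.map_tmul, map_one]

theorem star_mul {m m' : M} (hm : Star ρ m) (hm' : Star ρ m') : Star ρ (m * m') := by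
  rw [Star, map_mul, map_mul, hm, hm', Algebra.TensorProduct.tmul_mul_tmul, one_mul]

theorem star_add {m m' : M} (hm : Star ρ m) (hm' : Star ρ m') : Star ρ (m + m') := by
  rw [Star, map_add, map_add, hm, hm', TensorProduct.add_tmul]

theorem star_of_fixed {m : M} (hm : ρ m = m ⊗ₜ 1) : Star ρ m := by
  rw [Star, T', AlgHom.comp_apply, hm, Algebra.TensorProduct.map_tmul, map_one, AlgHom.id_apply, T_tmul, hm,
    Algebra.TensorProduct.tmul_mul_tmul, mul_one, mul_one]

/-- integration over the second factor -/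
noncomputable def I (J : C →ₗ[k] k) (M : Type*) [CommRing M] [Algebra k M] : M ⊗[k] C →ₗ[k] M :=
  (TensorProduct.rid k M).toLinearMap ∘ₗ J.lTensor M

theorem I_tmul (J : C →ₗ[k] k) (m : M) (c : C) : I J M (m ⊗ₜ c) = J c • m := by
  simp [I]

theorem I_ext (J : C →ₗ[k] k) (x : M ⊗[k] C) : I J N (ext u x) = u (I J M x) := by
  induction x with
  | zero => simp
  | tmul m c => rw [ext, Algebra.TensorProduct.map_tmul, I_tmul, I_tmul, map_smul, AlgHom.id_apply]
  | add x y hx hy => simp only [map_add, hx, hy]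

theorem I_mul (J : C →ₗ[k] k) (m : M) (x : M ⊗[k] C) : I J M ((m ⊗ₜ 1) * x) = m * I J M x := by
  induction x with
  | zero => simp
  | tmul m' c => rw [Algebra.TensorProduct.tmul_mul_tmul, I_tmul, I_tmul, one_mul, mul_smul_comm]
  | add x y hx hy => simp only [map_add, hx, hy, mul_add]

/-- **Rigidity.** -/
theorem rigid (J : C →ₗ[k] k) (ρ : M →ₐ[k] M ⊗[k] C) (ρN : N →ₐ[k] N ⊗[k] C) (u : M →ₐ[k] N)
    (h : ∀ m, ρN (u m) = ext u (ρ m)) (hs : Function.Surjective u) (hst : ∀ m, Star ρ m)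
    (hI : ∀ m, u m = 1 → I J M (ρ m) = 1) (e : M) (he : u (1 - e) = 0) (he' : ∀ z, u z = 0 → e * z = 0) :
    Function.Injective u := by
  rw [injective_iff_map_eq_zero]
  intro z hz
  have h1 : T' ρ z ∈ RingHom.ker (Algebra.TensorProduct.map u (AlgHom.id k C)) := by
    rw [RingHom.mem_ker]
    change ext u (T' ρ z) = 0
    rw [← T'_ext h, hz, map_zero]
  rw [Algebra.TensorProduct.rTensor_ker (R := k) (C := C) u hs] at h1
  have h2 : T' ρ z * (e ⊗ₜ 1) = 0 := by
    have h3 : Ideal.map (Algebra.TensorProduct.includeLeft : M →ₐ[k] M ⊗[k] C) (RingHom.ker u) ≤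
        (Submodule.span (M ⊗[k] C) {e ⊗ₜ[k] (1 : C)}).annihilator := by
      rw [Ideal.map_le_iff_le_comap]
      intro w hw
      rw [Ideal.mem_comap, Submodule.mem_annihilator_span_singleton, smul_eq_mul]
      change (w ⊗ₜ[k] (1 : C)) * (e ⊗ₜ 1) = 0
      rw [Algebra.TensorProduct.tmul_mul_tmul, mul_comm w, he' w hw, TensorProduct.zero_tmul]
    have h4 := h3 h1
    rwa [Submodule.mem_annihilator_span_singleton, smul_eq_mul] at h4
  have h5 : (z ⊗ₜ[k] (1 : C)) * ρ e = 0 := by
    have h6 := congrArg (T ρ) h2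
    rw [map_mul, map_zero, hst z, T_tmul] at h6
    rw [← h6]
    congr 1
    rw [← Algebra.TensorProduct.one_def, mul_one]
  have h7 := congrArg (I J M) h5
  have h8 : u e = 1 := by
    rw [map_sub, map_one, sub_eq_zero] at he
    exact he.symm
  rw [I_mul, map_zero, hI e h8, mul_one] at h7
  exact h7

end Def

section Free

variable {k} {B : Type*} [CommRing B] [Algebra k B]

/-- the coaction `id ⊗ Δ` on `B ⊗ C` -/
noncomputable def ρE : B ⊗[k] C →ₐ[k] (B ⊗[k] C) ⊗[k] C :=
  Algebra.TensorProduct.lift ((Algebra.TensorProduct.includeLeft).comp Algebra.TensorProduct.includeLeft)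
    ((Algebra.TensorProduct.map Algebra.TensorProduct.includeRight (AlgHom.id k C)).comp (Bialgebra.comulAlgHom k C))
    fun _ _ => .all _ _

theorem ρE_left (b : B) : ρE (k := k) (C := C) (b ⊗ₜ 1) = (b ⊗ₜ 1) ⊗ₜ 1 := by
  rw [ρE, Algebra.TensorProduct.lift_tmul, map_one, mul_one]
  rfl

theorem ρE_right (c : C) : ρE (k := k) ((1 : B) ⊗ₜ c) =
    ext (Algebra.TensorProduct.includeRight : C →ₐ[k] B ⊗[k] C) (Bialgebra.comulAlgHom k C c) := by
  rw [ρE, Algebra.TensorProduct.lift_tmul, map_one, one_mul]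
  rfl

theorem star_comul (c : C) : Star (Bialgebra.comulAlgHom k C) c := by
  rw [Star, T', AlgHom.comp_apply]
  refine Eq.trans ?_ (K189.Antipode.sum_comul_mul_antipode (k := k) c)
  change _ = LinearMap.mul' k (C ⊗[k] C) (TensorProduct.map _ _ (Bialgebra.comulAlgHom k C c))
  generalize Bialgebra.comulAlgHom k C c = x
  induction x with
  | zero => simp
  | tmul a b =>
    rw [Algebra.TensorProduct.map_tmul, T_tmul, TensorProduct.map_tmul, LinearMap.mul'_apply]
    rfl
  | add x y hx hy => rw [map_add, map_add, map_add, map_add, hx, hy]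

theorem star_E (x : B ⊗[k] C) : Star (ρE (k := k) (B := B) (C := C)) x := by
  induction x with
  | zero => rw [Star, map_zero, map_zero, TensorProduct.zero_tmul]
  | tmul b c =>
    have h1 : b ⊗ₜ[k] c = (b ⊗ₜ[k] (1 : C)) * ((1 : B) ⊗ₜ[k] c) := by
      rw [Algebra.TensorProduct.tmul_mul_tmul, one_mul, mul_one]
    rw [h1]
    have h2 : Star (ρE (k := k) (B := B) (C := C)) ((1 : B) ⊗ₜ[k] c) :=
      star_map (ρ := Bialgebra.comulAlgHom k C) (u := (Algebra.TensorProduct.includeRight : C →ₐ[k] B ⊗[k] C))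
        (fun c => ρE_right c) (star_comul c)
    exact star_mul (star_of_fixed (ρE_left b)) h2
  | add x y hx hy => exact star_add hx hy

/-- a normalised integral which is right invariant -/
def IsRInt (J : C →ₗ[k] k) : Prop :=
  J 1 = 1 ∧ ∀ c : C, I J C (Bialgebra.comulAlgHom k C c) = algebraMap k C (J c)

theorem I_ρE {J : C →ₗ[k] k} (hJ : IsRInt J) (x : B ⊗[k] C) :
    I J (B ⊗[k] C) (ρE x) = (I J B x) ⊗ₜ 1 := by
  induction x with
  | zero => simp
  | tmul b c =>
    have h1 : b ⊗ₜ[k] c = (b ⊗ₜ[k] (1 : C)) * ((1 : B) ⊗ₜ[k] c) := by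
      rw [Algebra.TensorProduct.tmul_mul_tmul, one_mul, mul_one]
    rw [I_tmul, h1, map_mul, ρE_left, I_mul, ρE_right, I_ext, hJ.2]
    change (b ⊗ₜ[k] (1 : C)) * ((1 : B) ⊗ₜ[k] (algebraMap k C (J c))) = _
    rw [Algebra.TensorProduct.tmul_mul_tmul, one_mul, mul_one, Algebra.algebraMap_eq_smul_one,
      TensorProduct.tmul_smul, TensorProduct.smul_tmul']
  | add x y hx hy => simp only [map_add, hx, hy, TensorProduct.add_tmul]

end Free

end K653.Coac
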