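import Groth.Agent.GIT.K653.Coac

/-!
# Fibrewise integral equivariant normalisations of `X × G` are everything
-/

set_option autoImplicit false
universe u v
open scoped TensorProduct
open K653.OpenFib K653.Coac

namespace K653.Luna

section BC

variable {k : Type*} {C B : Type*} [CommRing k] [CommRing C] [HopfAlgebra k C] [CommRing B] [Algebra k B]
  {M N : Type*} [CommRing M] [Algebra k M] [Algebra B M] [IsScalarTower k B M]
  [CommRing N] [Algebra k N] [Algebra B N] [IsScalarTower k B N]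
  (K : Type*) [CommRing K] [Algebra k K] [Algebra B K] [IsScalarTower k B K]

/-- `B`-linear version of a coaction fixing the scalars -/
noncomputable def ρB (ρ : M →ₐ[k] M ⊗[k] C) (h : ∀ b : B, ρ (algebraMap B M b) = (algebraMap B M b) ⊗ₜ 1) :
    M →ₐ[B] M ⊗[k] C :=
  { ρ with
    commutes' := fun b => by
      change ρ (algebraMap B M b) = _
      rw [h]; rfl }

/-- the inclusion of the second factor -/
noncomputable def iR : M →ₐ[k] K ⊗[B] M :=
  (Algebra.TensorProduct.includeRight : M →ₐ[B] K ⊗[B] M).restrictScalars k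

/-- the inclusion of the second factor, base changed -/
noncomputable def e1 : M ⊗[k] C →ₐ[B] (K ⊗[B] M) ⊗[k] C :=
  Algebra.TensorProduct.map (Algebra.TensorProduct.includeRight : M →ₐ[B] K ⊗[B] M) (AlgHom.id k C)

theorem e1_apply (x : M ⊗[k] C) : e1 (B := B) K x = ext (iR (B := B) K) x := by
  induction x with
  | zero => simp
  | tmul a b => rfl
  | add x y hx hy => simp only [map_add, hx, hy]

/-- the inclusion of the first factor -/
noncomputable def i1 : K →ₐ[B] (K ⊗[B] M) ⊗[k] C :=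
  (Algebra.TensorProduct.includeLeft : K ⊗[B] M →ₐ[B] (K ⊗[B] M) ⊗[k] C).comp
      (Algebra.TensorProduct.includeLeft : K →ₐ[B] K ⊗[B] M)

omit [Algebra k M] [IsScalarTower k B M] in
theorem i1_apply (c : K) : i1 (k := k) (B := B) (M := M) (C := C) K c = (c ⊗ₜ 1) ⊗ₜ 1 := rfl

/-- base change of a coaction -/
noncomputable def ρK' (ρ : M →ₐ[k] M ⊗[k] C) (h : ∀ b : B, ρ (algebraMap B M b) = (algebraMap B M b) ⊗ₜ 1) :
    K ⊗[B] M →ₐ[B] (K ⊗[B] M) ⊗[k] C :=
  Algebra.TensorProduct.lift (i1 K) ((e1 K).comp (ρB ρ h)) fun _ _ => .all _ _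

/-- base change of a coaction -/
noncomputable def ρK (ρ : M →ₐ[k] M ⊗[k] C) (h : ∀ b : B, ρ (algebraMap B M b) = (algebraMap B M b) ⊗ₜ 1) :
    K ⊗[B] M →ₐ[k] (K ⊗[B] M) ⊗[k] C := (ρK' K ρ h).restrictScalars k

variable {K} {ρ : M →ₐ[k] M ⊗[k] C} {h : ∀ b : B, ρ (algebraMap B M b) = (algebraMap B M b) ⊗ₜ 1}
  {ρN : N →ₐ[k] N ⊗[k] C} {hN : ∀ b : B, ρN (algebraMap B N b) = (algebraMap B N b) ⊗ₜ 1}

theorem ρK_tmul (c : K) (m : M) : ρK K ρ h (c ⊗ₜ m) = ((c ⊗ₜ 1) ⊗ₜ 1) * ext (iR (B := B) K) (ρ m) := by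
  rw [ρK, AlgHom.restrictScalars_apply]
  refine (Algebra.TensorProduct.lift_tmul _ _ _ _ _).trans ?_
  rw [← e1_apply, i1_apply]
  rfl

theorem ρK_right (m : M) : ρK K ρ h ((1 : K) ⊗ₜ m) = ext (iR (B := B) K) (ρ m) := by
  rw [ρK_tmul, ← Algebra.TensorProduct.one_def, ← Algebra.TensorProduct.one_def, one_mul]

theorem ρK_left (c : K) : ρK K ρ h (c ⊗ₜ (1 : M)) = (c ⊗ₜ 1) ⊗ₜ 1 := by
  rw [ρK_tmul, map_one, map_one, mul_one]

theorem tmul_eq (c : K) (m : M) : c ⊗ₜ[B] m = (c ⊗ₜ (1 : M)) * ((1 : K) ⊗ₜ m) := by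
  rw [Algebra.TensorProduct.tmul_mul_tmul, mul_one, one_mul]

theorem star_K (hs : ∀ m, Coac.Star ρ m) (l : K ⊗[B] M) : Coac.Star (ρK K ρ h) l := by
  induction l with
  | zero => rw [Coac.Star, map_zero, map_zero, TensorProduct.zero_tmul]
  | tmul c m =>
    rw [tmul_eq]
    exact star_mul (star_of_fixed (ρK_left c))
      (star_map (ρ := ρ) (u := iR (B := B) K) (fun c => ρK_right c) (hs m))
  | add x y hx hy => exact star_add hx hy

/-- the fibre map over `k` -/
noncomputable def fibk (K : Type*) [CommRing K] [Algebra k K] [Algebra B K] [IsScalarTower k B K]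
    (g : M →ₐ[B] N) : K ⊗[B] M →ₐ[k] K ⊗[B] N :=
  ((fib (K := K) g).restrictScalars B).restrictScalars k

omit [Algebra k M] [IsScalarTower k B M] [Algebra k N] [IsScalarTower k B N] in
theorem fibk_tmul (g : M →ₐ[B] N) (c : K) (m : M) : fibk (k := k) K g (c ⊗ₜ m) = c ⊗ₜ g m := rfl

theorem ρK_nat (g : M →ₐ[B] N) (hg : ∀ m, ρN (g m) = ext (g.restrictScalars k) (ρ m)) (l : K ⊗[B] M) :
    ρK K ρN hN (fibk (k := k) K g l) = ext (fibk (k := k) K g) (ρK K ρ h l) := by
  induction l with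
  | zero => simp
  | tmul c m =>
    rw [fibk_tmul, ρK_tmul, ρK_tmul, hg, map_mul, ext, Algebra.TensorProduct.map_tmul, fibk_tmul, map_one, map_one]
    congr 1
    generalize ρ m = x
    induction x with
    | zero => simp
    | tmul a b => rfl
    | add x y hx hy => simp only [map_add, hx, hy]
  | add x y hx hy => simp only [map_add, hx, hy]

/-- base change of a functional -/
noncomputable def rK (K : Type*) [CommRing K] [Algebra B K] (r : M →ₗ[B] B) : K ⊗[B] M →ₗ[B] K :=
  (TensorProduct.rid B K).toLinearMap ∘ₗ r.lTensor K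

theorem rK_tmul (r : M →ₗ[B] B) (c : K) (m : M) : rK K r (c ⊗ₜ m) = r m • c := by
  simp [rK]

theorem I_K (J : C →ₗ[k] k) (r : M →ₗ[B] B) (hr : ∀ m, I J M (ρ m) = algebraMap B M (r m)) (l : K ⊗[B] M) :
    I J (K ⊗[B] M) (ρK K ρ h l) = (rK K r l) ⊗ₜ 1 := by
  induction l with
  | zero => simp
  | tmul c m =>
    rw [ρK_tmul, I_mul, I_ext, hr, rK_tmul]
    change (c ⊗ₜ (1 : M)) * ((1 : K) ⊗ₜ[B] (algebraMap B M (r m))) = _
    rw [← tmul_eq, Algebra.algebraMap_eq_smul_one, TensorProduct.tmul_smul, TensorProduct.smul_tmul']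
  | add x y hx hy => simp only [map_add, hx, hy, TensorProduct.add_tmul]

theorem rK_fib (r : N →ₗ[B] B) (g : M →ₐ[B] N) (l : K ⊗[B] M) :
    rK K (r ∘ₗ g.toLinearMap) l = rK K r (fibk (k := k) K g l) := by
  induction l with
  | zero => simp
  | tmul c m => rw [rK_tmul, fibk_tmul, rK_tmul]; rfl
  | add x y hx hy => simp only [map_add, hx, hy]

/-- the fibre of an integral open immersion is an isomorphism -/
theorem fib_bijective (g : M →ₐ[B] N) (hgi : Function.Injective g)
    (hg : ∀ m, ρN (g m) = ext (g.restrictScalars k) (ρ m))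
    (h : ∀ b : B, ρ (algebraMap B M b) = (algebraMap B M b) ⊗ₜ 1)
    (hN : ∀ b : B, ρN (algebraMap B N b) = (algebraMap B N b) ⊗ₜ 1)
    (hs : ∀ m, Coac.Star ρ m) (J : C →ₗ[k] k)
    (r : N →ₗ[B] B) (hr : ∀ m, I J M (ρ m) = algebraMap B M (r (g m))) (hr1 : r 1 = 1)
    {ι : Type*} [Finite ι] (s : ι → M) (hs1 : Ideal.span (Set.range fun i => g (s i)) = ⊤)
    (hs2 : ∀ i y, ∃ (m : ℕ) (d : M), g d = g (s i) ^ m * y)
    (hint : (fib (K := K) g).toRingHom.IsIntegral) : Function.Bijective (fib (K := K) g) := by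
  have h1 : Ideal.span (Set.range fun i => (fib (K := K) g).toRingHom (1 ⊗ₜ s i)) = ⊤ := by
    rw [Ideal.eq_top_iff_one]
    have h2 : (1 : N) ∈ Ideal.span (Set.range fun i => g (s i)) := by rw [hs1]; trivial
    have h3 := Ideal.mem_map_of_mem (Algebra.TensorProduct.includeRight : N →ₐ[B] K ⊗[B] N) h2
    rw [map_one, Ideal.map_span] at h3
    refine Ideal.span_mono ?_ h3
    rintro _ ⟨_, ⟨i, rfl⟩, rfl⟩
    exact ⟨i, rfl⟩
  have hsurj : Function.Surjective (fib (K := K) g).toRingHom :=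
    OpenFib.surjective _ (fun i => (1 : K) ⊗ₜ[B] s i) hint h1 fun i y => fib_away g (s i) (hs2 i) y
  obtain ⟨e, he, he'⟩ := exists_idem (fib (K := K) g).toRingHom (fun i => (1 : K) ⊗ₜ[B] s i) hsurj h1
    fun i z hz => fib_ker g (s i) (hs2 i) hgi z hz
  refine ⟨?_, hsurj⟩
  exact rigid J (ρK K ρ h) (ρK K ρN hN) (fibk K g) (ρK_nat g hg) hsurj (star_K hs)
    (fun l hl => by
      rw [I_K J (r ∘ₗ g.toLinearMap) hr, rK_fib (k := k), hl, Algebra.TensorProduct.one_def, rK_tmul, hr1, one_smul,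
        Algebra.TensorProduct.one_def]) e he he'

end BC

section Main

variable {k : Type u} {C B : Type u} [Field k] [CommRing C] [HopfAlgebra k C] [CommRing B] [Algebra k B]

/-- the functional on `B ⊗ C` -/
noncomputable def rE (J : C →ₗ[k] k) : B ⊗[k] C →ₗ[B] B where
  toFun := I J B
  map_add' := map_add _
  map_smul' b x := by
    have h1 : b • x = (b ⊗ₜ[k] (1 : C)) * x := by
      rw [Algebra.smul_def]; rfl
    rw [h1, I_mul]
    rfl

variable (D : Subalgebra B (B ⊗[k] C))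

theorem ext_injective : Function.Injective (ext (C := C) (D.val.restrictScalars k)) := by
  have h1 : Function.Injective ((D.val.restrictScalars k).toLinearMap) := Subtype.val_injective
  exact Module.Flat.rTensor_preserves_injective_linearMap (M := C) _ h1

variable {D}

theorem exists_ρ (h : ∀ x ∈ D, ρE (k := k) x ∈ (ext (C := C) (D.val.restrictScalars k)).range) :
    ∃ ρ : D →ₐ[k] D ⊗[k] C, ∀ x, ρE (k := k) (D.val x) = ext (D.val.restrictScalars k) (ρ x) := by
  let e := AlgEquiv.ofInjective (ext (C := C) (D.val.restrictScalars k)) (ext_injective D)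
  let f : D →ₐ[k] (ext (C := C) (D.val.restrictScalars k)).range :=
    ((ρE (k := k) (B := B) (C := C)).comp (D.val.restrictScalars k)).codRestrict _ fun x => h x.1 x.2
  refine ⟨e.symm.toAlgHom.comp f, fun x => ?_⟩
  have h1 : (e (e.symm (f x)) : (B ⊗[k] C) ⊗[k] C) = ρE (k := k) (D.val x) := by
    rw [AlgEquiv.apply_symm_apply]
    rfl
  rw [← h1]
  rfl

theorem eq_top {J : C →ₗ[k] k} (hJ : IsRInt J)
    (h : ∀ x ∈ D, ρE (k := k) x ∈ (ext (C := C) (D.val.restrictScalars k)).range)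
    {ι : Type*} [Finite ι] (s : ι → D) (hs1 : Ideal.span (Set.range fun i => (s i : B ⊗[k] C)) = ⊤)
    (hs2 : ∀ i (y : B ⊗[k] C), ∃ (m : ℕ) (d : D), (d : B ⊗[k] C) = (s i : B ⊗[k] C) ^ m * y)
    (hint : ∀ (K : Type u) [Field K] [IsAlgClosed K] [Algebra B K],
      (fib (K := K) D.val).toRingHom.IsIntegral) : D = ⊤ := by
  obtain ⟨ρ, hρ⟩ := exists_ρ h
  have hb : ∀ b : B, ρ (algebraMap B D b) = (algebraMap B D b) ⊗ₜ 1 := by
    intro b
    apply ext_injective D
    rw [← hρ]
    exact ρE_left b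
  have hbE : ∀ b : B, ρE (k := k) (algebraMap B (B ⊗[k] C) b) = (algebraMap B (B ⊗[k] C) b) ⊗ₜ (1 : C) :=
    fun b => ρE_left b
  have hst : ∀ m, Coac.Star ρ m := fun m => star_of_map (u := D.val.restrictScalars k) hρ (ext_injective D) (star_E _)
  have hr : ∀ m : D, I J D (ρ m) = algebraMap B D (rE J (D.val m)) := by
    intro m
    apply Subtype.val_injective
    have h1 := I_ext (u := D.val.restrictScalars k) J (ρ m)
    rw [← hρ, I_ρE hJ] at h1
    exact h1.symm
  have hr1 : rE (B := B) J 1 = 1 := by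
    change I J B 1 = 1
    rw [Algebra.TensorProduct.one_def, I_tmul, hJ.1, one_smul]
  have key : Ideal.span (Set.range s) = ⊤ := by
    by_contra hne
    obtain ⟨n, hn, hle⟩ := Ideal.exists_le_maximal _ hne
    let F := D ⧸ n
    let _ : Field F := Ideal.Quotient.field n
    let K := AlgebraicClosure F
    let q : D →+* K := (algebraMap F K).comp (Ideal.Quotient.mk n)
    let iB : Algebra B K := (q.comp (algebraMap B D)).toAlgebra
    let ik : Algebra k K := (@algebraMap B K _ _ iB |>.comp (algebraMap k B)).toAlgebra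
    have : @IsScalarTower k B K _ iB.toSMul ik.toSMul := @IsScalarTower.of_algebraMap_eq' k B K _ _ _ _ iB ik rfl
    have hbij := fib_bijective (K := K) D.val Subtype.val_injective hρ hb hbE hst J (rE J) hr hr1 s hs1 hs2 (hint K)
    let q' : D →ₐ[B] K := { q with commutes' := fun b => rfl }
    let μ : K ⊗[B] D →ₐ[B] K := Algebra.TensorProduct.lift (AlgHom.id B K) q' fun _ _ => .all _ _
    have := Fintype.ofFinite ι
    have h1 : (1 : B ⊗[k] C) ∈ Ideal.span (Set.range fun i => (s i : B ⊗[k] C)) := by rw [hs1]; trivial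
    rw [Ideal.mem_span_range_iff_exists_fun] at h1
    obtain ⟨c, hc⟩ := h1
    choose d hd using fun i => hbij.2 ((1 : K) ⊗ₜ[B] c i)
    have h2 : ∑ i, d i * ((1 : K) ⊗ₜ[B] s i) = 1 := by
      apply hbij.1
      rw [map_sum, map_one, Algebra.TensorProduct.one_def, ← hc, TensorProduct.tmul_sum]
      refine Finset.sum_congr rfl fun i _ => ?_
      rw [map_mul, hd]
      change ((1 : K) ⊗ₜ[B] c i) * ((1 : K) ⊗ₜ[B] (s i : B ⊗[k] C)) = _
      rw [Algebra.TensorProduct.tmul_mul_tmul, mul_one]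
    have h3 := congrArg μ h2
    rw [map_sum, map_one] at h3
    have h4 : ∀ i, μ (d i * ((1 : K) ⊗ₜ[B] s i)) = 0 := by
      intro i
      have h5 : q (s i) = 0 := by
        have h6 : s i ∈ n := hle (Ideal.subset_span ⟨i, rfl⟩)
        change algebraMap F K (Ideal.Quotient.mk n (s i)) = 0
        rw [Ideal.Quotient.eq_zero_iff_mem.mpr h6, map_zero]
      rw [map_mul, Algebra.TensorProduct.lift_tmul]
      change _ * (_ * q (s i)) = 0
      rw [h5, mul_zero, mul_zero]
    rw [Finset.sum_eq_zero fun i _ => h4 i] at h3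
    exact zero_ne_one h3
  rw [eq_top_iff]
  intro y _
  choose m d hd using fun i => hs2 i y
  obtain ⟨N, hN⟩ : ∃ N, ∀ i, m i ≤ N := by
    have := Fintype.ofFinite ι
    exact ⟨Finset.univ.sup m, fun i => Finset.le_sup (Finset.mem_univ i)⟩
  have h7 : Ideal.span ((fun x => x ^ N) '' Set.range s) = ⊤ := Ideal.span_pow_eq_top _ key N
  have h8 : ∀ a : D, a ∈ Ideal.span ((fun x => x ^ N) '' Set.range s) → (a : B ⊗[k] C) * y ∈ D := by
    intro a ha
    induction ha using Submodule.span_induction with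
    | mem x hx =>
      obtain ⟨_, ⟨i, rfl⟩, rfl⟩ := hx
      have h9 : ((s i ^ N : D) : B ⊗[k] C) * y = ((s i ^ (N - m i) : D) : B ⊗[k] C) * (d i : B ⊗[k] C) := by
        rw [hd, ← mul_assoc]
        congr 1
        rw [← SubmonoidClass.coe_pow, ← MulMemClass.coe_mul, ← pow_add, Nat.sub_add_cancel (hN i)]
      change ((s i ^ N : D) : B ⊗[k] C) * y ∈ D
      rw [h9]
      exact D.mul_mem (s i ^ (N - m i)).2 (d i).2
    | zero => rw [ZeroMemClass.coe_zero, zero_mul]; exact D.zero_mem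
    | add a b _ _ ha hb => rw [AddMemClass.coe_add, add_mul]; exact D.add_mem ha hb
    | smul c a _ ha => rw [smul_eq_mul, MulMemClass.coe_mul, mul_assoc]; exact D.mul_mem c.2 ha
  have h10 := h8 1 (by rw [h7]; trivial)
  rwa [OneMemClass.coe_one, one_mul] at h10

end Main

end K653.Luna
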