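import Groth.Agent.GIT.K653.Luna

/-!
# Free actions with fibrewise integral orbit maps are integral

`main`: let `C` be a smooth Hopf algebra over a field with a normalised invariant integral and `D ⊆ B ⊗ C` a
`B`-subalgebra stable under `id ⊗ Δ` such that `B ⊗ C` is of finite type over `D` and integral over `D` after base
change to every algebraically closed field over `B`. Then `B ⊗ C` is integral over `D`.
-/

set_option autoImplicit false
universe u
open scoped TensorProduct
open K653.OpenFib K653.Coac K653.Luna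

namespace K653.LunaNorm

section Smooth

variable {k : Type*} {C : Type*} [CommRing k] [CommRing C] [Algebra k C] [Algebra.Smooth k C]
  {R E : Type*} [CommRing R] [Algebra k R] [CommRing E] [Algebra k E] [Algebra R E] [IsScalarTower k R E]

/-- elements of `E ⊗ C` integral over `R ⊗ C` come from the integral closure of `R` -/
theorem mem_range_of_isIntegralElem (y : E ⊗[k] C)
    (hy : (Algebra.TensorProduct.map (IsScalarTower.toAlgHom k R E) (AlgHom.id k C)).toRingHom.IsIntegralElem y) :
    y ∈ (Algebra.TensorProduct.map ((integralClosure R E).val.restrictScalars k) (AlgHom.id k C)).range := by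
  let Θ : (R ⊗[k] C) ⊗[R] E ≃ₐ[R] E ⊗[k] C :=
    (Algebra.TensorProduct.comm R (R ⊗[k] C) E).trans (Algebra.TensorProduct.cancelBaseChange k R R E C)
  have hΘ : ∀ (r : R) (c : C) (e : E), Θ ((r ⊗ₜ c) ⊗ₜ e) = (r • e) ⊗ₜ c := fun r c e => by
    change Algebra.TensorProduct.cancelBaseChange k R R E C (e ⊗ₜ (r ⊗ₜ c)) = _
    rw [Algebra.TensorProduct.cancelBaseChange_tmul]
  have hΘ' : ∀ s : R ⊗[k] C, Θ (algebraMap (R ⊗[k] C) _ s) =
      Algebra.TensorProduct.map (IsScalarTower.toAlgHom k R E) (AlgHom.id k C) s := by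
    intro s
    rw [Algebra.TensorProduct.algebraMap_apply, Algebra.algebraMap_self, RingHom.id_apply]
    induction s with
    | zero => simp
    | tmul r c =>
      rw [hΘ, Algebra.TensorProduct.map_tmul, Algebra.smul_def, mul_one]
      rfl
    | add a b ha hb => rw [TensorProduct.add_tmul, map_add, ha, hb, map_add]
  have h1 : IsIntegral (R ⊗[k] C) (Θ.symm y) := by
    obtain ⟨p, hp, hpy⟩ := hy
    refine ⟨p, hp, ?_⟩
    apply Θ.injective
    have h2 := Polynomial.hom_eval₂ p (algebraMap (R ⊗[k] C) ((R ⊗[k] C) ⊗[R] E)) Θ.toRingHom (Θ.symm y)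
    rw [map_zero]
    refine h2.trans ?_
    have h3 : Θ.toRingHom (Θ.symm y) = y := Θ.apply_symm_apply y
    rw [h3]
    rw [← hpy]
    congr 1
    exact RingHom.ext hΘ'
  obtain ⟨w, hw⟩ := (TensorProduct.toIntegralClosure_bijective_of_smooth (R := R) (S := R ⊗[k] C) (B := E)).2
    ⟨Θ.symm y, h1⟩
  have hw' : (Algebra.TensorProduct.map (AlgHom.id (R ⊗[k] C) (R ⊗[k] C)) (integralClosure R E).val) w = Θ.symm y :=
    congrArg Subtype.val hw
  have h4 : Θ ((Algebra.TensorProduct.map (AlgHom.id (R ⊗[k] C) (R ⊗[k] C)) (integralClosure R E).val) w) = y := by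
    rw [hw', AlgEquiv.apply_symm_apply]
  rw [← h4]
  clear hw hw' h4
  induction w with
  | zero => rw [map_zero, map_zero]; exact Subalgebra.zero_mem _
  | tmul s x =>
    rw [Algebra.TensorProduct.map_tmul]
    induction s with
    | zero => rw [map_zero, TensorProduct.zero_tmul, map_zero]; exact Subalgebra.zero_mem _
    | tmul r c =>
      rw [AlgHom.id_apply, hΘ]
      exact ⟨(r • x) ⊗ₜ c, rfl⟩
    | add a b ha hb =>
      rw [map_add, TensorProduct.add_tmul, map_add]
      exact Subalgebra.add_mem _ ha hb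
  | add a b ha hb =>
    rw [map_add, map_add]
    exact Subalgebra.add_mem _ ha hb

end Smooth

section Fin

theorem quasiFinite_aux {B D E : Type u} [CommRing B] [CommRing D] [CommRing E] [Algebra B D] [Algebra B E]
    [Algebra D E] [IsScalarTower B D E] [Algebra.FiniteType D E] (κ K : Type u) [Field κ] [Field K] [Algebra κ K]
    [Algebra D κ] [Algebra D K] [IsScalarTower D κ K] [Algebra B K] [IsScalarTower B D K]
    (hint : (fib (K := K) (IsScalarTower.toAlgHom B D E)).toRingHom.IsIntegral) : Module.Finite κ (κ ⊗[D] E) := by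
  have h1 : Algebra.IsIntegral K (K ⊗[D] E) := by
    constructor
    intro x
    let a : K ⊗[B] E →ₐ[K] K ⊗[D] E := Algebra.TensorProduct.lift (Algebra.ofId K _)
      ((Algebra.TensorProduct.includeRight : E →ₐ[D] K ⊗[D] E).restrictScalars B) fun _ _ => .all _ _
    let b : K ⊗[B] D →ₐ[K] K := Algebra.TensorProduct.lift (Algebra.ofId K _)
      (IsScalarTower.toAlgHom B D K) fun _ _ => .all _ _
    have hab : ∀ y : K ⊗[B] D, a (fib (K := K) (IsScalarTower.toAlgHom B D E) y) = algebraMap K (K ⊗[D] E) (b y) := by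
      intro y
      induction y with
      | zero => simp
      | tmul c d =>
        rw [Algebra.TensorProduct.map_tmul, Algebra.TensorProduct.lift_tmul, Algebra.TensorProduct.lift_tmul]
        change (c ⊗ₜ[D] (1 : E)) * ((1 : K) ⊗ₜ[D] (algebraMap D E d)) = (c * algebraMap D K d) ⊗ₜ[D] (1 : E)
        rw [Algebra.TensorProduct.tmul_mul_tmul, mul_one, one_mul, Algebra.algebraMap_eq_smul_one (A := E),
          TensorProduct.tmul_smul, TensorProduct.smul_tmul', mul_comm, Algebra.smul_def]
      | add y z hy hz => simp only [map_add, hy, hz]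
    have hsurj : Function.Surjective a := by
      intro z
      induction z with
      | zero => exact ⟨0, map_zero _⟩
      | tmul c e =>
        refine ⟨c ⊗ₜ e, ?_⟩
        rw [Algebra.TensorProduct.lift_tmul]
        change (c ⊗ₜ[D] (1 : E)) * ((1 : K) ⊗ₜ[D] e) = _
        rw [Algebra.TensorProduct.tmul_mul_tmul, mul_one, one_mul]
      | add y z hy hz =>
        obtain ⟨y', hy'⟩ := hy
        obtain ⟨z', hz'⟩ := hz
        exact ⟨y' + z', by rw [map_add, hy', hz']⟩
    obtain ⟨y, rfl⟩ := hsurj x
    obtain ⟨p, hp, hpy⟩ := hint y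
    refine ⟨p.map b.toRingHom, hp.map _, ?_⟩
    rw [Polynomial.eval₂_map]
    have h2 : (algebraMap K (K ⊗[D] E)).comp b.toRingHom =
        a.toRingHom.comp (fib (K := K) (IsScalarTower.toAlgHom B D E)).toRingHom := RingHom.ext fun y => (hab y).symm
    rw [h2]
    have h3 := Polynomial.hom_eval₂ p (fib (K := K) (IsScalarTower.toAlgHom B D E)).toRingHom a.toRingHom y
    rw [hpy, map_zero] at h3
    exact h3.symm
  have h2 : Module.Finite K (K ⊗[D] E) := Algebra.IsIntegral.finite
  have h3 : Module.Finite K (K ⊗[κ] (κ ⊗[D] E)) :=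
    Module.Finite.equiv (TensorProduct.AlgebraTensorModule.cancelBaseChange D κ K K E).symm
  exact Module.Finite.of_finite_tensorProduct_of_faithfullyFlat (R := κ) K

/-- finiteness descends along field extensions for the fibres -/
theorem quasiFinite {B D E : Type u} [CommRing B] [CommRing D] [CommRing E] [Algebra B D] [Algebra B E] [Algebra D E]
    [IsScalarTower B D E] [Algebra.FiniteType D E]
    (hint : ∀ (K : Type u) [Field K] [IsAlgClosed K] [Algebra B K],
      (fib (K := K) (IsScalarTower.toAlgHom B D E)).toRingHom.IsIntegral) : Algebra.QuasiFinite D E := by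
  constructor
  intro P _
  obtain ⟨K, hK, hA, hi⟩ : ∃ (K : Type u) (_ : Field K) (_ : IsAlgClosed K), Nonempty (Algebra P.ResidueField K) :=
    ⟨AlgebraicClosure P.ResidueField, inferInstance, inferInstance, ⟨inferInstance⟩⟩
  let i0 : Algebra P.ResidueField K := hi.some
  let i1 : Algebra D K := ((algebraMap P.ResidueField K).comp (algebraMap D P.ResidueField)).toAlgebra
  let i2 : Algebra B K := ((algebraMap D K).comp (algebraMap B D)).toAlgebra
  have : IsScalarTower D P.ResidueField K := .of_algebraMap_eq' rfl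
  have : IsScalarTower B D K := .of_algebraMap_eq' rfl
  exact quasiFinite_aux P.ResidueField K (hint K)

/-- finitely many functions as in Zariski's main theorem -/
theorem exists_zmt {D E : Type u} [CommRing D] [CommRing E] [Algebra D E] [Algebra.FiniteType D E]
    [Algebra.QuasiFinite D E] : ∃ t : Finset E, Ideal.span (t : Set E) = ⊤ ∧
      ∀ r ∈ t, IsIntegral D r ∧ ∀ x, ∃ m : ℕ, IsIntegral D (r ^ m * x) := by
  let S : Set E := {r | IsIntegral D r ∧ ∀ x, ∃ m : ℕ, IsIntegral D (r ^ m * x)}
  have h1 : Ideal.span S = ⊤ := by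
    by_contra hne
    obtain ⟨q, hq, hle⟩ := Ideal.exists_le_maximal _ hne
    have h2 : Algebra.ZariskisMainProperty D q := .of_finiteType q
    rw [Algebra.zariskisMainProperty_iff] at h2
    obtain ⟨r, hr, hr1, hr2⟩ := h2
    exact hr (hle (Ideal.subset_span ⟨hr1, hr2⟩))
  obtain ⟨t, ht, ht'⟩ := (Ideal.span_eq_top_iff_finite S).mp h1
  exact ⟨t, ht', fun r hr => ht hr⟩

end Fin

section Main

variable {k : Type u} {C B : Type u} [Field k] [CommRing C] [HopfAlgebra k C] [Algebra.Smooth k C]
  [CommRing B] [Algebra k B] {D : Subalgebra B (B ⊗[k] C)}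

theorem ρE_mem (h : ∀ x ∈ D, ρE (k := k) x ∈ (ext (C := C) (D.val.restrictScalars k)).range)
    (x : B ⊗[k] C) (hx : IsIntegral D x) : ρE (k := k) x ∈ (ext (C := C)
      (((integralClosure D (B ⊗[k] C)).restrictScalars B).val.restrictScalars k)).range := by
  obtain ⟨ρ, hρ⟩ := exists_ρ h
  refine mem_range_of_isIntegralElem (R := D) (E := B ⊗[k] C) _ ?_
  obtain ⟨p, hp, hpx⟩ := hx
  refine ⟨p.map ρ.toRingHom, hp.map _, ?_⟩
  rw [Polynomial.eval₂_map]
  have h2 : (Algebra.TensorProduct.map (IsScalarTower.toAlgHom k D (B ⊗[k] C)) (AlgHom.id k C)).toRingHom.comp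
      ρ.toRingHom = (ρE (k := k) (B := B) (C := C)).toRingHom.comp (algebraMap D (B ⊗[k] C)) :=
    RingHom.ext fun y => (hρ y).symm
  rw [h2]
  have h3 := Polynomial.hom_eval₂ p (algebraMap D (B ⊗[k] C)) (ρE (k := k) (B := B) (C := C)).toRingHom x
  rw [hpx, map_zero] at h3
  exact h3.symm

theorem main {J : C →ₗ[k] k} (hJ : IsRInt J)
    (h : ∀ x ∈ D, ρE (k := k) x ∈ (ext (C := C) (D.val.restrictScalars k)).range)
    [Algebra.FiniteType D (B ⊗[k] C)]
    (hint : ∀ (K : Type u) [Field K] [IsAlgClosed K] [Algebra B K],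
      (fib (K := K) D.val).toRingHom.IsIntegral) : Algebra.IsIntegral D (B ⊗[k] C) := by
  have hqf : Algebra.QuasiFinite D (B ⊗[k] C) := quasiFinite (B := B) fun K _ _ _ => hint K
  obtain ⟨t, ht, ht'⟩ := exists_zmt (D := D) (E := B ⊗[k] C)
  let D' : Subalgebra B (B ⊗[k] C) := (integralClosure D (B ⊗[k] C)).restrictScalars B
  have htop : D' = ⊤ := by
    refine eq_top (ι := t) hJ (fun x hx => ρE_mem h x hx) (fun r => ⟨r.1, (ht' r.1 r.2).1⟩) ?_ ?_ ?_
    · rw [← ht]
      congr 1
      ext x
      constructor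
      · rintro ⟨i, rfl⟩
        exact i.2
      · intro hx
        exact ⟨⟨x, hx⟩, rfl⟩
    · intro i y
      obtain ⟨m, hm⟩ := (ht' i.1 i.2).2 y
      exact ⟨m, ⟨_, hm⟩, rfl⟩
    · intro K _ _ _ x
      obtain ⟨p, hp, hpx⟩ := hint K x
      let inc : D →ₐ[B] D' := Subalgebra.inclusion fun x hx => by
        change IsIntegral D x
        exact isIntegral_algebraMap (R := D) (x := ⟨x, hx⟩)
      refine ⟨p.map (fib (K := K) inc).toRingHom, hp.map _, ?_⟩
      rw [Polynomial.eval₂_map, ← hpx]
      congr 1
      apply RingHom.ext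
      intro y
      change fib (K := K) D'.val (fib (K := K) inc y) = fib (K := K) D.val y
      induction y with
      | zero => simp
      | tmul a b => rfl
      | add a b ha hb => simp only [map_add, ha, hb]
  constructor
  intro x
  have hx : x ∈ D' := by rw [htop]; trivial
  exact hx

end Main

end K653.LunaNorm
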