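import Mathlib

/-!
# Integral open immersions of rings, fibrewise

Elementary facts on a ring map `j : L → E` which is an isomorphism after inverting elements `r i` of `L` generating the
unit ideal of `E`: if `j` is integral it is surjective and its kernel is generated by an idempotent.
-/

set_option autoImplicit false
open scoped TensorProduct

namespace K653.OpenFib

section Abs

variable {L E : Type*} [CommRing L] [CommRing E] (j : L →+* E)

/-- an ideal generating the unit ideal of an integral extension generates it together with the kernel -/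
theorem exists_add_ker (hj : j.IsIntegral) (I : Ideal L) (hI : I.map j = ⊤) :
    ∃ a ∈ I, ∃ z, j z = 0 ∧ a + z = 1 := by
  have h : I ⊔ RingHom.ker j = ⊤ := by
    by_contra hne
    obtain ⟨n, hn, hle⟩ := Ideal.exists_le_maximal _ hne
    let _ := j.toAlgebra
    have : Algebra.IsIntegral L E := ⟨hj⟩
    have hk : RingHom.ker (algebraMap L E) ≤ n := le_trans le_sup_right hle
    obtain ⟨Q, _, hQ, hQn⟩ := Ideal.exists_ideal_over_prime_of_isIntegral n (⊥ : Ideal E) hk
    have h1 : I.map j ≤ Q := by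
      rw [Ideal.map_le_iff_le_comap]
      exact (le_sup_left.trans hle).trans hQn.ge
    rw [hI] at h1
    exact hQ.ne_top (top_le_iff.mp h1)
  have h1 : (1 : L) ∈ I ⊔ RingHom.ker j := by rw [h]; trivial
  obtain ⟨a, ha, z, hz, h2⟩ := Submodule.mem_sup.mp h1
  exact ⟨a, ha, z, hz, h2⟩

variable {ι : Type*} [Finite ι] (r : ι → L)

theorem surjective (hj : j.IsIntegral) (hr : Ideal.span (Set.range fun i => j (r i)) = ⊤)
    (h1 : ∀ i y, ∃ m : ℕ, ∃ l, j l = j (r i) ^ m * y) : Function.Surjective j := by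
  intro y
  let I : Ideal L :=
    { carrier := {l | ∃ l', j l' = j l * y}
      add_mem' := by
        rintro a b ⟨a', ha⟩ ⟨b', hb⟩
        exact ⟨a' + b', by rw [map_add, ha, hb, map_add, add_mul]⟩
      zero_mem' := ⟨0, by simp⟩
      smul_mem' := by
        rintro c a ⟨a', ha⟩
        exact ⟨c * a', by rw [map_mul, ha, smul_eq_mul, map_mul, mul_assoc]⟩ }
  choose m l hl using fun i => h1 i y
  have hI : I.map j = ⊤ := by
    obtain ⟨N, hN⟩ : ∃ N, ∀ i, m i ≤ N := by
      have := Fintype.ofFinite ι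
      exact ⟨Finset.univ.sup m, fun i => Finset.le_sup (Finset.mem_univ i)⟩
    have h2 : Ideal.span ((fun x => x ^ N) '' Set.range fun i => j (r i)) = ⊤ := Ideal.span_pow_eq_top _ hr N
    rw [← top_le_iff, ← h2, Ideal.span_le]
    rintro _ ⟨_, ⟨i, rfl⟩, rfl⟩
    have h3 : r i ^ N ∈ I := ⟨r i ^ (N - m i) * l i, by
      rw [map_mul, hl, map_pow, ← mul_assoc, ← pow_add, Nat.sub_add_cancel (hN i), map_pow]⟩
    have h4 := Ideal.mem_map_of_mem j h3
    rw [map_pow] at h4
    exact h4
  obtain ⟨a, ⟨l', hl'⟩, z, hz, haz⟩ := exists_add_ker j hj I hI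
  refine ⟨l', ?_⟩
  have h5 : j a = 1 := by
    have := congrArg j haz
    rw [map_add, hz, add_zero, map_one] at this
    exact this
  rw [hl', h5, one_mul]

theorem exists_idem (hs : Function.Surjective j) (hr : Ideal.span (Set.range fun i => j (r i)) = ⊤)
    (h2 : ∀ i z, j z = 0 → ∃ m : ℕ, r i ^ m * z = 0) : ∃ e : L, j (1 - e) = 0 ∧ ∀ z, j z = 0 → e * z = 0 := by
  have := Fintype.ofFinite ι
  have h1 : (1 : E) ∈ Ideal.span (Set.range fun i => j (r i)) := by rw [hr]; trivial
  rw [Ideal.mem_span_range_iff_exists_fun] at h1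
  obtain ⟨c, hc⟩ := h1
  choose d hd using fun i => hs (c i)
  let u : L := ∑ i, d i * r i
  have hu : j u = 1 := by
    rw [← hc, map_sum]
    exact Finset.sum_congr rfl fun i _ => by rw [map_mul, hd]
  have h3 : ∀ z, j z = 0 → ∃ m : ℕ, u ^ m * z = 0 := by
    intro z hz
    choose m hm using fun i => h2 i z hz
    let I : Ideal L := (Submodule.span L {z}).annihilator
    have hI : ∀ x, x ∈ I ↔ x * z = 0 := by
      intro x
      rw [Submodule.mem_annihilator_span_singleton, smul_eq_mul]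
    have h4 : u ∈ I.radical := by
      refine Ideal.sum_mem _ fun i _ => Ideal.mul_mem_left _ _ ⟨m i, ?_⟩
      exact (hI _).mpr (hm i)
    obtain ⟨n, hn⟩ := h4
    exact ⟨n, (hI _).mp hn⟩
  obtain ⟨M, hM⟩ := h3 (1 - u) (by rw [map_sub, map_one, hu, sub_self])
  have h5 : ∀ n, u ^ (M + n) = u ^ M := by
    intro n
    induction n with
    | zero => rfl
    | succ n ih =>
      have h6 : u ^ M * u = u ^ M := by
        have := hM
        rw [mul_sub, mul_one, sub_eq_zero] at this
        exact this.symm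
      rw [← add_assoc, pow_succ, ih, h6]
  refine ⟨u ^ M, by rw [map_sub, map_one, map_pow, hu, one_pow, sub_self], fun z hz => ?_⟩
  obtain ⟨n, hn⟩ := h3 z hz
  rw [← h5 n, pow_add, mul_assoc, hn, mul_zero]

end Abs

section Fibre

variable {B D E K : Type*} [CommRing B] [CommRing D] [CommRing E] [CommRing K] [Algebra B D] [Algebra B E]
  [Algebra B K] (g : D →ₐ[B] E)

/-- the induced map on fibres -/
noncomputable abbrev fib : K ⊗[B] D →ₐ[K] K ⊗[B] E := Algebra.TensorProduct.map (AlgHom.id K K) g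

theorem fib_away (r : D) (h : ∀ y : E, ∃ m : ℕ, ∃ d, g d = g r ^ m * y) (y : K ⊗[B] E) :
    ∃ m : ℕ, ∃ l, fib (K := K) g l = fib (K := K) g (1 ⊗ₜ r) ^ m * y := by
  induction y with
  | zero => exact ⟨0, 0, by simp⟩
  | tmul c y =>
    obtain ⟨m, d, hd⟩ := h y
    refine ⟨m, c ⊗ₜ d, ?_⟩
    simp only [Algebra.TensorProduct.map_tmul, AlgHom.coe_id, id_eq, hd, Algebra.TensorProduct.tmul_pow, one_pow,
      Algebra.TensorProduct.tmul_mul_tmul, one_mul]
  | add y y' hy hy' =>
    obtain ⟨m, l, hl⟩ := hy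
    obtain ⟨m', l', hl'⟩ := hy'
    refine ⟨m + m', (1 ⊗ₜ r) ^ m' * l + (1 ⊗ₜ r) ^ m * l', ?_⟩
    rw [map_add, map_mul, map_mul, hl, hl', map_pow, map_pow]
    ring

theorem fib_ker (r : D) (h : ∀ y : E, ∃ m : ℕ, ∃ d, g d = g r ^ m * y) (hg : Function.Injective g)
    (z : K ⊗[B] D) (hz : fib (K := K) g z = 0) : ∃ m : ℕ, (1 ⊗ₜ r) ^ m * z = 0 := by
  let Lr := Localization.Away (1 ⊗ₜ[B] r : K ⊗[B] D)
  let Er := Localization.Away (g r)
  let Dr := Localization.Away r
  let φ : Dr →+* Er := Localization.awayMap g.toRingHom r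
  have hφ : ∀ d : D, φ (algebraMap D Dr d) = algebraMap E Er (g d) := fun d => IsLocalization.map_eq _ d
  have hφb : Function.Bijective φ := by
    refine ⟨Localization.awayMap_injective_iff.mpr fun a ha => ⟨0, ?_⟩, Localization.awayMap_surjective_iff.mpr ?_⟩
    · rw [pow_zero, one_mul]
      exact hg (by rw [map_zero]; exact ha)
    · intro a
      obtain ⟨m, d, hd⟩ := h a
      exact ⟨d, m, hd⟩
  let e := RingEquiv.ofBijective φ hφb
  let i1 : K ⊗[B] D →+* Lr := algebraMap _ _
  let i2 : D →+* Lr := i1.comp (Algebra.TensorProduct.includeRight : D →ₐ[B] K ⊗[B] D).toRingHom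
  have hu : IsUnit (i2 r) := IsLocalization.Away.algebraMap_isUnit (S := Lr) (1 ⊗ₜ[B] r : K ⊗[B] D)
  let i3 : Dr →+* Lr := IsLocalization.Away.lift r hu
  have hi3 : ∀ d, i3 (algebraMap D Dr d) = i2 d := fun d => IsLocalization.Away.lift_eq r hu d
  let χ : E →+* Lr := (i3.comp e.symm.toRingHom).comp (algebraMap E Er)
  have hχ : ∀ d, χ (g d) = i2 d := by
    intro d
    have h1 : e.symm (algebraMap E Er (g d)) = algebraMap D Dr d := by
      rw [RingEquiv.symm_apply_eq]
      exact (hφ d).symm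
    change i3 (e.symm (algebraMap E Er (g d))) = _
    rw [h1, hi3]
  let χ' : E →ₐ[B] Lr :=
    { χ with
      commutes' := by
        intro b
        change χ (algebraMap B E b) = _
        rw [← g.commutes, hχ]
        change i1 ((1 : K) ⊗ₜ[B] (algebraMap B D b)) = algebraMap B Lr b
        rw [IsScalarTower.algebraMap_apply B (K ⊗[B] D) Lr]
        congr 1
        rw [Algebra.TensorProduct.algebraMap_apply, Algebra.algebraMap_eq_smul_one, TensorProduct.tmul_smul,
          Algebra.algebraMap_eq_smul_one, TensorProduct.smul_tmul'] }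
  let κ' : K →ₐ[B] Lr := (IsScalarTower.toAlgHom B (K ⊗[B] D) Lr).comp Algebra.TensorProduct.includeLeft
  let Ψ : K ⊗[B] E →ₐ[B] Lr := Algebra.TensorProduct.lift κ' χ' fun _ _ => .all _ _
  have hΨ : ∀ w : K ⊗[B] D, Ψ (fib (K := K) g w) = i1 w := by
    intro w
    have h2 : Ψ.comp ((fib (K := K) g).restrictScalars B) = IsScalarTower.toAlgHom B (K ⊗[B] D) Lr := by
      apply Algebra.TensorProduct.ext'
      intro a d
      change Ψ (fib (K := K) g (a ⊗ₜ d)) = i1 (a ⊗ₜ d)
      rw [Algebra.TensorProduct.map_tmul]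
      change Ψ (a ⊗ₜ g d) = _
      rw [Algebra.TensorProduct.lift_tmul]
      change i1 (a ⊗ₜ[B] (1 : D)) * χ (g d) = _
      rw [hχ]
      change i1 _ * i1 (1 ⊗ₜ[B] d) = _
      rw [← map_mul, Algebra.TensorProduct.tmul_mul_tmul, mul_one, one_mul]
    exact congr($h2 w)
  have h4 : i1 z = i1 0 := by rw [← hΨ, hz, map_zero, map_zero]
  obtain ⟨⟨c, m, rfl⟩, hc⟩ := (IsLocalization.eq_iff_exists (Submonoid.powers (1 ⊗ₜ[B] r : K ⊗[B] D)) Lr).mp h4
  exact ⟨m, by simpa using hc⟩

end Fibre

end K653.OpenFib
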