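import Groth.Agent.GIT.K653.SpecPsi
import Groth.Agent.GIT.K686.HaarRed
import Groth.Agent.GIT.K686.BcAct
import Groth.Agent.S11441
import Groth.Agent.S8082

/-!
# Closed actions with finite stabilisers of linearly reductive groups are proper
-/

set_option autoImplicit false
universe u
open CategoryTheory MonoidalCategory CartesianMonoidalCategory MonObj AlgebraicGeometry Topology Limits
open scoped TensorProduct
open K951.Pts Groth.Agent.Books.BorelOrb Groth.Agent.Books.AffBridge Groth.Agent.Sga3.H219.Coact K686.CoactOf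
open K653.SpecPsi K653.Coac K653.OpenFib

namespace K653.ProperAct

attribute [local instance] K951.Pts.algΓ

section Int

variable {k : Type*} {C : Type*} [Field k] [CommRing C] [HopfAlgebra k C]

/-- the right invariant integral -/
theorem isRInt {α : C →ₗ[k] k} (h1 : α 1 = 1) (hα : K191.Integral.IsInt α) :
    IsRInt (α ∘ₗ HopfAlgebra.antipode k) := by
  refine ⟨by rw [LinearMap.comp_apply, HopfAlgebra.antipode_one, h1], fun c => ?_⟩
  have h2 : ∀ t : C ⊗[k] C, I (α ∘ₗ HopfAlgebra.antipode k) C t = HopfAlgebra.antipode k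
      (TensorProduct.lid k C (α.rTensor C (TensorProduct.comm k C C
        (TensorProduct.map (HopfAlgebra.antipode k) (HopfAlgebra.antipode k) t)))) := by
    intro t
    induction t with
    | zero => simp
    | tmul a b =>
      rw [I_tmul, TensorProduct.map_tmul, TensorProduct.comm_tmul, LinearMap.rTensor_tmul, TensorProduct.lid_tmul,
        map_smul, K187.Integral.antipode_antipode]
      rfl
    | add x y hx hy => simp only [map_add, hx, hy]
  rw [h2]
  have h3 := K187.Integral.comul_antipode k c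
  change HopfAlgebra.antipode k (TensorProduct.lid k C (α.rTensor C (TensorProduct.comm k C C
        (TensorProduct.map (HopfAlgebra.antipode k) (HopfAlgebra.antipode k) (Coalgebra.comul (R := k) c))))) = _
  rw [← h3, hα, TensorProduct.lid_tmul, map_smul, HopfAlgebra.antipode_one, Algebra.algebraMap_eq_smul_one]
  rfl

end Int

section Aff

variable {k : Type u} [Field k] {G X : Over (Spec (CommRingCat.of k))} [GrpObj G] [IsAffine X.left]
  (a : AlgGrp.Action G X) {C : Type u} [CommRing C] [HopfAlgebra k C] (e : SpecOver k C ≅ G) [IsMonHom e.hom]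

/-- the coaction on the functions of `X` -/
noncomputable abbrev ρX : Γ(X.left, ⊤) →ₐ[k] Γ(X.left, ⊤) ⊗[k] C := rho k (r a e)

omit [IsAffine X.left] in
theorem assoc_ρE (t : Γ(X.left, ⊤) ⊗[k] C) :
    TensorProduct.assoc k _ C C (ρE (k := k) t) = (CoalgebraStruct.comul (R := k) (A := C)).lTensor _ t := by
  induction t with
  | zero => simp
  | tmul b c =>
    have h1 : b ⊗ₜ[k] c = (b ⊗ₜ[k] (1 : C)) * ((1 : Γ(X.left, ⊤)) ⊗ₜ[k] c) := by
      rw [Algebra.TensorProduct.tmul_mul_tmul, _root_.one_mul, _root_.mul_one]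
    rw [LinearMap.lTensor_tmul, h1, map_mul, ρE_left, ρE_right]
    change _ = b ⊗ₜ[k] (Bialgebra.comulAlgHom k C c)
    generalize Bialgebra.comulAlgHom k C c = x
    induction x with
    | zero => simp
    | tmul u v =>
      rw [Coac.ext, Algebra.TensorProduct.map_tmul, Algebra.TensorProduct.tmul_mul_tmul, _root_.one_mul]
      change TensorProduct.assoc k _ C C ((b ⊗ₜ[k] (1 : C) * (1 : Γ(X.left, ⊤)) ⊗ₜ[k] u) ⊗ₜ[k] v) = _
      rw [Algebra.TensorProduct.tmul_mul_tmul, _root_.one_mul, _root_.mul_one, TensorProduct.assoc_tmul]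
    | add x y hx hy => rw [map_add, _root_.mul_add, map_add, hx, hy, TensorProduct.tmul_add]
  | add x y hx hy => simp only [map_add, hx, hy]

theorem ρE_ρX (b : Γ(X.left, ⊤)) :
    ρE (k := k) (ρX a e b) = Algebra.TensorProduct.map (ρX a e) (AlgHom.id k C) (ρX a e b) := by
  apply (TensorProduct.assoc k _ C C).injective
  rw [assoc_ρE, ← coassoc (r a e) (hmul a e)]
  rfl

/-- the algebra of functions generated by the orbit map of the universal point -/
noncomputable abbrev D : Subalgebra Γ(X.left, ⊤) (Γ(X.left, ⊤) ⊗[k] C) :=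
  (Φ a e (AlgHom.id k Γ(X.left, ⊤))).range

omit [IsMonHom e.hom] in
theorem ρX_mem (b : Γ(X.left, ⊤)) : ρX a e b ∈ D a e := by
  refine ⟨1 ⊗ₜ b, ?_⟩
  change Φ a e (AlgHom.id k Γ(X.left, ⊤)) (1 ⊗ₜ b) = _
  rw [Φ, Algebra.TensorProduct.lift_tmul, map_one, _root_.one_mul, AlgHom.comp_apply,
    Algebra.TensorProduct.map_id, AlgHom.id_apply]

/-- the coaction with values in `D` -/
noncomputable def ρ' : Γ(X.left, ⊤) →ₐ[k] D a e where
  toFun := fun b => ⟨ρX a e b, ρX_mem a e b⟩
  map_one' := Subtype.ext (map_one _)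
  map_mul' := fun _ _ => Subtype.ext (map_mul _ _ _)
  map_zero' := Subtype.ext (map_zero _)
  map_add' := fun _ _ => Subtype.ext (map_add _ _ _)
  commutes' := fun c => Subtype.ext ((ρX a e).commutes c)

theorem stable (x : Γ(X.left, ⊤) ⊗[k] C) (hx : x ∈ D a e) :
    ρE (k := k) x ∈ (ext (C := C) ((D a e).val.restrictScalars k)).range := by
  obtain ⟨y, rfl⟩ := hx
  change ρE (k := k) (Φ a e (AlgHom.id k Γ(X.left, ⊤)) y) ∈ _
  induction y with
  | zero => rw [map_zero, map_zero]; exact Subalgebra.zero_mem _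
  | tmul b b' =>
    rw [Φ, Algebra.TensorProduct.lift_tmul, map_mul]
    refine Subalgebra.mul_mem _ ?_ ?_
    · change ρE (k := k) (b ⊗ₜ[k] (1 : C)) ∈ _
      rw [ρE_left]
      exact ⟨(algebraMap _ (D a e) b) ⊗ₜ 1, rfl⟩
    · rw [AlgHom.comp_apply, Algebra.TensorProduct.map_id, AlgHom.id_apply, ρE_ρX]
      refine ⟨Algebra.TensorProduct.map (ρ' a e) (AlgHom.id k C) (ρX a e b'), ?_⟩
      generalize ρX a e b' = t
      change ext ((D a e).val.restrictScalars k) (Algebra.TensorProduct.map (ρ' a e) (AlgHom.id k C) t) = _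
      induction t with
      | zero => simp
      | tmul u v => rfl
      | add x y hx hy => simp only [map_add, hx, hy]
  | add x y hx hy => rw [map_add, map_add]; exact Subalgebra.add_mem _ hx hy

omit [IsMonHom e.hom] in
theorem fib_isIntegral (K : Type u) [CommRing K] [Algebra Γ(X.left, ⊤) K] [Algebra k K]
    [IsScalarTower k Γ(X.left, ⊤) K]
    (h : (Φ a e (IsScalarTower.toAlgHom k Γ(X.left, ⊤) K)).toRingHom.IsIntegral) :
    (fib (K := K) (D a e).val).toRingHom.IsIntegral := by
  intro y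
  let Θ : K ⊗[Γ(X.left, ⊤)] (Γ(X.left, ⊤) ⊗[k] C) ≃ₐ[K] K ⊗[k] C :=
    Algebra.TensorProduct.cancelBaseChange k Γ(X.left, ⊤) K K C
  let g : Γ(X.left, ⊤) →ₐ[k] K ⊗[Γ(X.left, ⊤)] (D a e) :=
    ((Algebra.TensorProduct.includeRight : (D a e) →ₐ[Γ(X.left, ⊤)] K ⊗[Γ(X.left, ⊤)] (D a e)).restrictScalars k).comp
      (ρ' a e)
  let s : K ⊗[k] Γ(X.left, ⊤) →ₐ[K] K ⊗[Γ(X.left, ⊤)] (D a e) :=
    Algebra.TensorProduct.lift (Algebra.ofId K _) g fun _ _ => .all _ _
  have hΘ : ∀ (c : K) (t : Γ(X.left, ⊤) ⊗[k] C), Θ (c ⊗ₜ t) = (c ⊗ₜ (1 : C)) *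
      Algebra.TensorProduct.map (IsScalarTower.toAlgHom k Γ(X.left, ⊤) K) (AlgHom.id k C) t := by
    intro c t
    induction t with
    | zero => simp
    | tmul b d =>
      change Algebra.TensorProduct.cancelBaseChange k Γ(X.left, ⊤) K K C (c ⊗ₜ (b ⊗ₜ d)) = _
      rw [Algebra.TensorProduct.cancelBaseChange_tmul, Algebra.TensorProduct.map_tmul, Algebra.TensorProduct.tmul_mul_tmul, _root_.one_mul, Algebra.smul_def,
        _root_.mul_comm]
      rfl
    | add x y hx hy => rw [TensorProduct.tmul_add, map_add, hx, hy, map_add, _root_.mul_add]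
  have hs : ∀ z, Θ (fib (K := K) (D a e).val (s z)) = Φ a e (IsScalarTower.toAlgHom k Γ(X.left, ⊤) K) z := by
    intro z
    induction z with
    | zero => rw [map_zero, map_zero, map_zero, map_zero]
    | tmul c b =>
      have h1 : s (c ⊗ₜ b) = c ⊗ₜ (ρ' a e b) := by
        refine (Algebra.TensorProduct.lift_tmul _ _ _ _ _).trans ?_
        change (c ⊗ₜ (1 : D a e)) * ((1 : K) ⊗ₜ (ρ' a e b)) = _
        rw [Algebra.TensorProduct.tmul_mul_tmul, _root_.one_mul, _root_.mul_one]
      rw [h1, Algebra.TensorProduct.map_tmul, hΘ, Φ, Algebra.TensorProduct.lift_tmul]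
      rfl
    | add x y hx hy => rw [map_add, map_add, map_add, hx, hy, map_add]
  obtain ⟨p, hp, hpy⟩ := h (Θ y)
  refine ⟨p.map s.toRingHom, hp.map _, ?_⟩
  rw [Polynomial.eval₂_map]
  apply Θ.injective
  have h2 := Polynomial.hom_eval₂ p ((fib (K := K) (D a e).val).toRingHom.comp s.toRingHom) Θ.toRingHom y
  rw [map_zero]
  refine h2.trans ?_
  have h3 : Θ.toRingHom.comp ((fib (K := K) (D a e).val).toRingHom.comp s.toRingHom) =
      (Φ a e (IsScalarTower.toAlgHom k Γ(X.left, ⊤) K)).toRingHom := RingHom.ext hs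
  rw [h3]
  exact hpy

include e in
theorem isIntegral [IsAffine G.left] [LocallyOfFiniteType G.hom] [LocallyOfFiniteType X.hom]
    [Algebra.Smooth k C] [Algebra.FiniteType k C]
    (hcl : GIT.IsClosedAction a)
    [LocallyQuasiFinite (Limits.pullback.snd (GIT.psi a (𝟙 X)).left (lift (𝟙 X) (𝟙 X)).left)]
    {α : C →ₗ[k] k} (h1 : α 1 = 1) (hα : K191.Integral.IsInt α) :
    IsIntegralHom (GIT.psi a (𝟙 X)).left := by
  have hft : Algebra.FiniteType (D a e) (Γ(X.left, ⊤) ⊗[k] C) :=
    Algebra.FiniteType.of_restrictScalars_finiteType Γ(X.left, ⊤) (D a e) _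
  have h2 : Algebra.IsIntegral (D a e) (Γ(X.left, ⊤) ⊗[k] C) := by
    refine LunaNorm.main (isRInt h1 hα) (stable a e) fun K _ _ iB => ?_
    let ik : Algebra k K := ((algebraMap Γ(X.left, ⊤) K).comp (algebraMap k Γ(X.left, ⊤))).toAlgebra
    have : IsScalarTower k Γ(X.left, ⊤) K := .of_algebraMap_eq' rfl
    apply fib_isIntegral a e K
    rw [isIntegral_Φ_iff, IsIntegralHom.iff_universallyClosed_and_isAffineHom]
    have h3 : IsProper (GIT.psi a (pnt (IsScalarTower.toAlgHom k Γ(X.left, ⊤) K))).left := isProper_psi_pt a hcl _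
    have : IsAffine (SpecOver k K).left := inferInstanceAs (IsAffine (Spec (CommRingCat.of K)))
    have h4 := affine_tensor G (SpecOver k K)
    have h5 := affine_tensor X (SpecOver k K)
    exact ⟨inferInstance, inferInstance⟩
  have h3 : (Φ a e (AlgHom.id k Γ(X.left, ⊤))).toRingHom.IsIntegral := by
    have h4 : (Φ a e (AlgHom.id k Γ(X.left, ⊤))).rangeRestrict.toRingHom.IsIntegral :=
      RingHom.isIntegral_of_surjective _ (AlgHom.rangeRestrict_surjective _)
    have h5 : (algebraMap (D a e) (Γ(X.left, ⊤) ⊗[k] C)).IsIntegral := h2.isIntegral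
    exact RingHom.IsIntegral.trans _ _ h4 h5
  rw [isIntegral_Φ_iff] at h3
  have h5 : IsIso (pnt (AlgHom.id k Γ(X.left, ⊤))) := by
    rw [pnt, specMap_id, Category.id_comp]
    infer_instance
  have key : ∀ f : SpecOver k Γ(X.left, ⊤) ⟶ X, IsIso f → IsIntegralHom (GIT.psi a f).left →
      IsIntegralHom (GIT.psi a (𝟙 X)).left := by
    intro f hf h
    have h4 := (K689.StabBC.isPullback_psi a (𝟙 X) f).map (Over.forget _)
    have h6 : IsIntegralHom (GIT.psi a (f ≫ 𝟙 X)).left := by rwa [Category.comp_id]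
    have h7 : IsIso (G ◁ f).left := inferInstanceAs (IsIso ((Over.forget _).map (G ◁ f)))
    have h8 : IsIso (X ◁ f).left := inferInstanceAs (IsIso ((Over.forget _).map (X ◁ f)))
    have h9 : (G ◁ f).left ≫ (GIT.psi a (𝟙 X)).left = (GIT.psi a (f ≫ 𝟙 X)).left ≫ (X ◁ f).left := h4.w
    rw [← MorphismProperty.cancel_left_of_respectsIso (P := @IsIntegralHom) (G ◁ f).left, h9,
      MorphismProperty.cancel_right_of_respectsIso (P := @IsIntegralHom)]
    exact h6
  exact key _ h5 h3

end Aff

section Glob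

variable {S : Scheme.{u}} {G X X' : Over S} [GrpObj G] (a : AlgGrp.Action G X) (a' : AlgGrp.Action G X')
  (pr : X' ⟶ X) [Mono pr] (h : a'.act ≫ pr = (G ◁ pr) ≫ a.act)

omit [Mono pr] in
include h in
theorem psi_whisker {T : Over S} (f : T ⟶ X') : GIT.psi a' f ≫ (pr ▷ T) = GIT.psi a (f ≫ pr) := by
  rw [GIT.psi, GIT.psi, lift_whiskerRight, Category.assoc, h, MonoidalCategory.whiskerLeft_comp_assoc]

theorem isPullback_of_mono {𝒞 : Type*} [Category 𝒞] {A B D : 𝒞} (g : A ⟶ B) (m : B ⟶ D) [Mono m] (f : A ⟶ D)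
    (hf : g ≫ m = f) : IsPullback (𝟙 A) g f m := by
  subst hf
  exact IsPullback.of_isLimit' ⟨by rw [Category.id_comp]⟩
    (PullbackCone.IsLimit.mk _ (fun s => s.fst)
      (fun s => Category.comp_id _)
      (fun s => by rw [← cancel_mono m, Category.assoc]; exact s.condition)
      (fun s t h1 h2 => by rw [← h1]; exact (Category.comp_id _).symm))

instance mono_whiskerRight (T : Over S) : Mono (pr ▷ T) := by
  constructor
  intro Z u v huv
  apply CartesianMonoidalCategory.hom_ext
  · rw [← cancel_mono pr]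
    have := congrArg (· ≫ fst _ _) huv
    simpa only [Category.assoc, whiskerRight_fst] using this
  · have := congrArg (· ≫ snd _ _) huv
    simpa only [Category.assoc, whiskerRight_snd] using this

include h in
theorem isPullback_psi' {T : Over S} (f : T ⟶ X') :
    IsPullback (𝟙 (G ⊗ T)) (GIT.psi a' f) (GIT.psi a (f ≫ pr)) (pr ▷ T) :=
  isPullback_of_mono _ _ _ (psi_whisker a a' pr h f)

include h in
/-- restriction of `Ψ` to an invariant subobject -/
theorem isPullback_Psi : IsPullback (G ◁ pr) (GIT.psi a' (𝟙 X')) (GIT.psi a (𝟙 X)) ((pr ▷ X') ≫ (X ◁ pr)) := by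
  have h1 := K689.StabBC.isPullback_psi a (𝟙 X) pr
  have h2 := isPullback_psi' a a' pr h (𝟙 X')
  rw [Category.comp_id] at h1
  rw [Category.id_comp] at h2
  have h3 := h2.paste_horiz h1
  rwa [Category.id_comp] at h3

include h in
/-- the induced action on an invariant subobject is closed -/
theorem isClosedAction (hcl : GIT.IsClosedAction a) : GIT.IsClosedAction a' := by
  intro Ω _ _ T e f
  have h1 := hcl Ω T e (f ≫ pr)
  have h2 : IsPullback ((Over.forget S).map (𝟙 (G ⊗ T))) (GIT.psi a' f).left (GIT.psi a (f ≫ pr)).left (pr ▷ T).left :=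
    (isPullback_psi' a a' pr h f).map (Over.forget S)
  have h3 : Set.range (GIT.psi a' f).left = (pr ▷ T).left ⁻¹' Set.range (GIT.psi a (f ≫ pr)).left :=
    K686.Whisk.range_of_isPullback h2.flip
  change IsClosed (Set.range (GIT.psi a' f).left)
  rw [h3]
  exact h1.preimage (pr ▷ T).left.continuous

include h in
/-- the stabilisers of the induced action on an invariant subobject are quasi-finite -/
theorem quasiFinite [LocallyQuasiFinite (Limits.pullback.snd (GIT.psi a (𝟙 X)).left (lift (𝟙 X) (𝟙 X)).left)] :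
    LocallyQuasiFinite (Limits.pullback.snd (GIT.psi a' (𝟙 X')).left (lift (𝟙 X') (𝟙 X')).left) := by
  have h1 : LocallyQuasiFinite (GLinSh.stabTo a pr) := by
    have key : ∀ f' : X' ⟶ X, f' = pr ≫ 𝟙 X → LocallyQuasiFinite (GLinSh.stabTo a f') := by
      rintro _ rfl
      obtain ⟨m, hm⟩ := K689.StabBC.exists_isPullback_stab a (𝟙 X) pr
      exact MorphismProperty.of_isPullback (P := @LocallyQuasiFinite) hm
        (inferInstanceAs (LocallyQuasiFinite (Limits.pullback.snd (GIT.psi a (𝟙 X)).left (lift (𝟙 X) (𝟙 X)).left)))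
    exact key pr (Category.comp_id pr).symm
  have h2 : IsPullback (Limits.pullback.fst (GIT.psi a' (𝟙 X')).left (lift (𝟙 X') (𝟙 X')).left)
      (Limits.pullback.snd (GIT.psi a' (𝟙 X')).left (lift (𝟙 X') (𝟙 X')).left)
      (GIT.psi a' (𝟙 X')).left (lift (𝟙 X') (𝟙 X')).left := IsPullback.of_hasPullback _ _
  have h3 : IsPullback ((Over.forget S).map (𝟙 (G ⊗ X'))) (GIT.psi a' (𝟙 X')).left (GIT.psi a pr).left (pr ▷ X').left := by
    have := (isPullback_psi' a a' pr h (𝟙 X')).map (Over.forget S)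
    rwa [Category.id_comp] at this
  have h4 := h2.paste_horiz h3
  have h5 : IsPullback (Limits.pullback.fst (GIT.psi a pr).left (lift pr (𝟙 X')).left)
      (Limits.pullback.snd (GIT.psi a pr).left (lift pr (𝟙 X')).left)
      (GIT.psi a pr).left (lift pr (𝟙 X')).left := IsPullback.of_hasPullback _ _
  have h6 : (lift (𝟙 X') (𝟙 X')).left ≫ (pr ▷ X').left = (lift pr (𝟙 X')).left := by
    rw [← Over.comp_left, lift_whiskerRight, Category.id_comp]
  rw [h6] at h4
  have h7 : LocallyQuasiFinite (Limits.pullback.snd (GIT.psi a pr).left (lift pr (𝟙 X')).left) := h1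
  have h8 := h4.isoIsPullback_hom_snd _ _ h5
  rw [← h8]
  infer_instance

end Glob

section Local

variable {S : Scheme.{u}} {G X Y : Over S} [GrpObj G] (a : AlgGrp.Action G X) (φ : X ⟶ Y)
  (hφ : GIT.IsInvariant a φ)

/-- `Ψ` is proper if it is so over the members of an open cover of `Y` -/
theorem isProper_of_local [IsSeparated Y.hom]
    (H : ∀ y : Y.left, ∃ W : Y.left.Opens, y ∈ W ∧
      IsProper (GIT.psi (K686.bcAct (K686.isPullback_W φ W) a hφ) (𝟙 (K686.YW X (φ.left ⁻¹ᵁ W)))).left) :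
    IsProper (GIT.psi a (𝟙 X)).left := by
  let q1 : X ⊗ X ⟶ Y := fst X X ≫ φ
  let q2 : X ⊗ X ⟶ Y := snd X X ≫ φ
  have hq : GIT.psi a (𝟙 X) ≫ q1 = GIT.psi a (𝟙 X) ≫ q2 := by
    have h1 : GIT.psi a (𝟙 X) ≫ q1 = a.act ≫ φ := by
      change GIT.psi a (𝟙 X) ≫ fst X X ≫ φ = _
      rw [GIT.psi, lift_fst_assoc, MonoidalCategory.whiskerLeft_id, Category.id_comp]
    have h2 : GIT.psi a (𝟙 X) ≫ q2 = snd G X ≫ φ := by
      change GIT.psi a (𝟙 X) ≫ snd X X ≫ φ = _
      rw [GIT.psi, lift_snd_assoc]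
    rw [h1, h2]
    exact hφ
  let f : (G ⊗ X).left ⟶ (X ⊗ X).left := (GIT.psi a (𝟙 X)).left
  let em : (Limits.equalizer q1 q2).left ⟶ (X ⊗ X).left := (Limits.equalizer.ι q1 q2).left
  have hem : IsClosedImmersion em := isClosedImmersion_equalizer_ι_left q1 q2
  have hfe : Set.range f ⊆ Set.range em := by
    have h1 : f = (Limits.equalizer.lift (GIT.psi a (𝟙 X)) hq).left ≫ em := by
      change _ = (Limits.equalizer.lift (GIT.psi a (𝟙 X)) hq).left ≫ (Limits.equalizer.ι q1 q2).left
      rw [← Over.comp_left, Limits.equalizer.lift_ι]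
    rw [h1]
    rintro _ ⟨z, rfl⟩
    exact ⟨(Limits.equalizer.lift (GIT.psi a (𝟙 X)) hq).left z, by rw [Scheme.Hom.comp_apply]⟩
  have key : ∀ z : (X ⊗ X).left, ∃ V : (X ⊗ X).left.Opens, z ∈ V ∧ IsProper (f ∣_ V) := by
    intro z
    by_cases hz : z ∈ Set.range em
    · obtain ⟨t, rfl⟩ := hz
      obtain ⟨W, hyW, hW⟩ := H (q1.left (em t))
      have hyW' : q2.left (em t) ∈ W := by
        have h1 : em ≫ q1.left = em ≫ q2.left := by
          change (Limits.equalizer.ι q1 q2).left ≫ q1.left = (Limits.equalizer.ι q1 q2).left ≫ q2.left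
          rw [← Over.comp_left, ← Over.comp_left, Limits.equalizer.condition]
        rw [← Scheme.Hom.comp_apply, ← h1, Scheme.Hom.comp_apply]
        exact hyW
      let X' := K686.YW X (φ.left ⁻¹ᵁ W)
      let pr : X' ⟶ X := K686.iW X (φ.left ⁻¹ᵁ W)
      have hpr : IsOpenImmersion pr.left := inferInstanceAs (IsOpenImmersion (φ.left ⁻¹ᵁ W).ι)
      have hprm : Mono pr := by
        have : Mono ((Over.forget S).map pr) := inferInstanceAs (Mono (φ.left ⁻¹ᵁ W).ι)
        exact (Over.forget S).mono_of_mono_map this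
      let a' := K686.bcAct (K686.isPullback_W φ W) a hφ
      have h2 := (isPullback_Psi a a' pr (K686.bcAct_pr _ _ _)).map (Over.forget S)
      let m : (X' ⊗ X').left ⟶ (X ⊗ X).left := ((pr ▷ X') ≫ (X ◁ pr)).left
      have hm1 : IsOpenImmersion (pr ▷ X').left :=
        MorphismProperty.of_isPullback (P := @IsOpenImmersion) (K686.Whisk.isPullback_whiskerRight_left pr X').flip hpr
      have hm2 : IsOpenImmersion (X ◁ pr).left :=
        MorphismProperty.of_isPullback (P := @IsOpenImmersion) (K686.Whisk.isPullback_whiskerLeft_left pr X).flip hpr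
      have hm : IsOpenImmersion m := by
        change IsOpenImmersion ((pr ▷ X').left ≫ (X ◁ pr).left)
        infer_instance
      refine ⟨m.opensRange, ?_, ?_⟩
      · have r1 : Set.range (X ◁ pr).left = (snd X X).left ⁻¹' Set.range pr.left :=
          K686.Whisk.range_of_isPullback (K686.Whisk.isPullback_whiskerLeft_left pr X)
        have r2 : Set.range (pr ▷ X').left = (fst X X').left ⁻¹' Set.range pr.left :=
          K686.Whisk.range_of_isPullback (K686.Whisk.isPullback_whiskerRight_left pr X')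
        have r3 : Set.range pr.left = φ.left ⁻¹' W := by
          change Set.range (φ.left ⁻¹ᵁ W).ι = _
          rw [Scheme.Opens.range_ι]
          rfl
        have r4 : em t ∈ Set.range (X ◁ pr).left := by
          rw [r1, Set.mem_preimage, r3]
          exact hyW'
        obtain ⟨s, hs⟩ := r4
        have r5 : s ∈ Set.range (pr ▷ X').left := by
          rw [r2, Set.mem_preimage, r3]
          have r6 : (fst X X').left s = (fst X X).left (em t) := by
            rw [← hs, ← Scheme.Hom.comp_apply, ← Over.comp_left, whiskerLeft_fst]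
          rw [r6]
          exact hyW
        obtain ⟨s', hs'⟩ := r5
        refine ⟨s', ?_⟩
        change ((pr ▷ X').left ≫ (X ◁ pr).left) s' = em t
        rw [Scheme.Hom.comp_apply, hs', hs]
      · rw [MorphismProperty.arrow_mk_iso_iff (@IsProper) (morphismRestrictOpensRange f m)]
        have h3 : IsPullback (G ◁ pr).left (GIT.psi a' (𝟙 X')).left f m := h2
        rw [← MorphismProperty.cancel_left_of_respectsIso (P := @IsProper) h3.isoPullback.hom,
          h3.isoPullback_hom_snd]
        exact hW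
    · refine ⟨⟨(Set.range em)ᶜ, em.isClosedEmbedding.isClosed_range.isOpen_compl⟩, hz, ?_⟩
      have : IsEmpty (f ⁻¹ᵁ (⟨(Set.range em)ᶜ, em.isClosedEmbedding.isClosed_range.isOpen_compl⟩ :
          (X ⊗ X).left.Opens)).toScheme :=
        ⟨fun t => t.2 (hfe ⟨t.1, rfl⟩)⟩
      infer_instance
  choose V hV1 hV2 using key
  rw [IsZariskiLocalAtTarget.iff_of_iSup_eq_top (P := @IsProper) V
    (by rw [eq_top_iff]; intro z _; exact TopologicalSpace.Opens.mem_iSup.mpr ⟨z, hV1 z⟩)]
  exact hV2

end Local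

end K653.ProperAct
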