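import Groth.Agent.GIT.K686.CoactOf
import Groth.Agent.GIT.K689.StabBC
import Groth.Agent.GIT.K686.OrbProper
import Groth.Agent.GIT.K653.LunaNorm

/-!
# The action map of an affine group on an affine scheme as a map of spectra
-/

set_option autoImplicit false
universe u
open CategoryTheory MonoidalCategory CartesianMonoidalCategory MonObj AlgebraicGeometry Topology Limits
open scoped TensorProduct
open K951.Pts Groth.Agent.Books.BorelOrb Groth.Agent.Books.AffBridge Groth.Agent.Sga3.H219.Coact K686.CoactOf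

namespace K653.SpecPsi

attribute [local instance] K951.Pts.algΓ

section Iso

variable (k : Type u) [CommRing k] (A B : Type u) [CommRing A] [Algebra k A] [CommRing B] [Algebra k B]

/-- `Spec (A ⊗ B) ⟶ Spec A × Spec B` -/
noncomputable def c : SpecOver k (A ⊗[k] B) ⟶ SpecOver k A ⊗ SpecOver k B :=
  lift (specMap k Algebra.TensorProduct.includeLeft) (specMap k Algebra.TensorProduct.includeRight)

/-- `Spec A × Spec B ⟶ Spec (A ⊗ B)` -/
noncomputable def d : SpecOver k A ⊗ SpecOver k B ⟶ SpecOver k (A ⊗[k] B) :=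
  ofFn (Algebra.TensorProduct.lift (fn (fst _ _)) (fn (snd _ _)) fun _ _ => .all _ _)

theorem d_left : d k A B ≫ specMap k Algebra.TensorProduct.includeLeft = fst _ _ := by
  apply fn_injective
  refine (fn_comp_pt (d k A B) (Algebra.TensorProduct.includeLeft : A →ₐ[k] A ⊗[k] B)).trans ?_
  rw [d, fn_ofFn, Algebra.TensorProduct.lift_comp_includeLeft]

theorem d_right : d k A B ≫ specMap k Algebra.TensorProduct.includeRight = snd _ _ := by
  apply fn_injective
  refine (fn_comp_pt (d k A B) (Algebra.TensorProduct.includeRight : B →ₐ[k] A ⊗[k] B)).trans ?_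
  rw [d, fn_ofFn]
  ext b
  rw [AlgHom.comp_apply, Algebra.TensorProduct.includeRight_apply, Algebra.TensorProduct.lift_tmul, map_one,
    _root_.one_mul]

theorem d_c : d k A B ≫ c k A B = 𝟙 _ := by
  rw [c, comp_lift, d_left, d_right, lift_fst_snd]

theorem c_d : c k A B ≫ d k A B = 𝟙 _ := by
  apply fn_injective
  apply Algebra.TensorProduct.ext
  · apply AlgHom.ext
    intro a
    rw [AlgHom.comp_apply, fn_comp, d, fn_ofFn, Algebra.TensorProduct.includeLeft_apply,
      Algebra.TensorProduct.lift_tmul, map_one, _root_.mul_one, ← fn_comp, c, lift_fst]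
    have h := fn_comp_pt (𝟙 (SpecOver k (A ⊗[k] B))) (Algebra.TensorProduct.includeLeft : A →ₐ[k] A ⊗[k] B)
    rw [Category.id_comp] at h
    exact congr($h a)
  · apply AlgHom.ext
    intro a
    rw [AlgHom.comp_apply, AlgHom.comp_apply]
    change fn (c k A B ≫ d k A B) ((1 : A) ⊗ₜ[k] a) = fn (𝟙 (SpecOver k (A ⊗[k] B))) ((1 : A) ⊗ₜ[k] a)
    rw [fn_comp, d, fn_ofFn, Algebra.TensorProduct.lift_tmul, map_one, _root_.one_mul, ← fn_comp, c, lift_snd]
    have h := fn_comp_pt (𝟙 (SpecOver k (A ⊗[k] B))) (Algebra.TensorProduct.includeRight : B →ₐ[k] A ⊗[k] B)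
    rw [Category.id_comp] at h
    exact congr($h a)

/-- `Spec (A ⊗ B) ≅ Spec A × Spec B` -/
noncomputable def cIso : SpecOver k (A ⊗[k] B) ≅ SpecOver k A ⊗ SpecOver k B where
  hom := c k A B
  inv := d k A B
  hom_inv_id := c_d k A B
  inv_hom_id := d_c k A B

end Iso

section Act

variable {k : Type u} [Field k] {G X : Over (Spec (CommRingCat.of k))} [GrpObj G] [IsAffine X.left]
  (a : AlgGrp.Action G X) {C : Type u} [CommRing C] [HopfAlgebra k C] (e : SpecOver k C ≅ G)
  {K : Type u} [CommRing K] [Algebra k K] (x : Γ(X.left, ⊤) →ₐ[k] K)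

/-- the comorphism of the action on a point: `κ ⊗ b ↦ κ · (x ⊗ id)(ρ b)` -/
noncomputable def Φ : K ⊗[k] Γ(X.left, ⊤) →ₐ[K] K ⊗[k] C :=
  Algebra.TensorProduct.lift (Algebra.ofId K _)
    ((Algebra.TensorProduct.map x (AlgHom.id k C)).comp (rho k (r a e))) fun _ _ => .all _ _

/-- the point of `X` given by `x` -/
noncomputable def pnt : SpecOver k K ⟶ X := specMap k x ≫ (ε X).hom

/-- `Spec (K ⊗ C) ≅ G × Spec K` -/
noncomputable def i1 : SpecOver k (K ⊗[k] C) ⟶ G ⊗ SpecOver k K :=
  lift ((specMap k Algebra.TensorProduct.includeRight ≫ e.hom)⁻¹) (specMap k Algebra.TensorProduct.includeLeft)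

instance : IsIso (i1 (K := K) e) := by
  let j : G ⊗ SpecOver k K ⟶ SpecOver k (K ⊗[k] C) := lift (snd _ _) ((fst _ _)⁻¹ ≫ e.inv) ≫ (cIso k K C).inv
  refine ⟨j, ?_, ?_⟩
  · have h1 : i1 (K := K) e ≫ lift (snd _ _) ((fst _ _)⁻¹ ≫ e.inv) = (cIso k K C).hom := by
      apply CartesianMonoidalCategory.hom_ext
      · rw [Category.assoc, lift_fst, i1, lift_snd]
        change _ = c k K C ≫ fst _ _
        rw [c, lift_fst]
      · rw [Category.assoc, lift_snd, ← Category.assoc, GrpObj.comp_inv, i1, lift_fst, inv_inv, Category.assoc,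
          Iso.hom_inv_id, Category.comp_id]
        change _ = c k K C ≫ snd _ _
        rw [c, lift_snd]
    change i1 (K := K) e ≫ (_ ≫ _) = _
    rw [← Category.assoc, h1, Iso.hom_inv_id]
  · have h2 : j ≫ specMap k (Algebra.TensorProduct.includeRight : C →ₐ[k] K ⊗[k] C) = (fst _ _)⁻¹ ≫ e.inv := by
      change (_ ≫ d k K C) ≫ _ = _
      rw [Category.assoc, d_right, lift_snd]
    have h3 : j ≫ specMap k (Algebra.TensorProduct.includeLeft : K →ₐ[k] K ⊗[k] C) = snd _ _ := by
      change (_ ≫ d k K C) ≫ _ = _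
      rw [Category.assoc, d_left, lift_fst]
    apply CartesianMonoidalCategory.hom_ext
    · rw [Category.assoc, i1, lift_fst, GrpObj.comp_inv, ← Category.assoc, h2, Category.assoc, Iso.inv_hom_id,
        Category.comp_id, inv_inv, Category.id_comp]
    · rw [Category.assoc, i1, lift_snd, h3, Category.id_comp]

/-- `Spec (K ⊗ Γ(X)) ≅ X × Spec K` -/
noncomputable def i2 : SpecOver k (K ⊗[k] Γ(X.left, ⊤)) ≅ X ⊗ SpecOver k K :=
  cIso k K Γ(X.left, ⊤) ≪≫ whiskerLeftIso _ (ε X) ≪≫ β_ _ _

theorem specMap_Φ : specMap k ((Φ a e x).restrictScalars k) ≫ i2.hom = i1 e ≫ GIT.psi a (pnt x) := by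
  have h1 : ((Φ a e x).restrictScalars k).comp Algebra.TensorProduct.includeLeft =
      (Algebra.TensorProduct.includeLeft : K →ₐ[k] K ⊗[k] C) := by
    ext y
    change Φ a e x (y ⊗ₜ 1) = y ⊗ₜ 1
    rw [Φ, Algebra.TensorProduct.lift_tmul, map_one, _root_.mul_one]
    rfl
  have h2 : ((Φ a e x).restrictScalars k).comp Algebra.TensorProduct.includeRight =
      (Algebra.TensorProduct.map x (AlgHom.id k C)).comp (rho k (r a e)) := by
    ext y
    change Φ a e x (1 ⊗ₜ y) = _
    rw [Φ, Algebra.TensorProduct.lift_tmul, map_one, _root_.one_mul]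
  have h3 : (Algebra.TensorProduct.map x (AlgHom.id k C)).comp (rho k (r a e)) =
      (Algebra.TensorProduct.lift ((Algebra.TensorProduct.includeLeft : K →ₐ[k] K ⊗[k] C).comp x)
        (Algebra.TensorProduct.includeRight : C →ₐ[k] K ⊗[k] C) fun _ _ => .all _ _).comp (rho k (r a e)) := by
    congr 1
    apply Algebra.TensorProduct.ext
    · ext y
      simp
    · ext y
      simp
  have h4 := lift_comp (r a e) ((Algebra.TensorProduct.includeLeft : K →ₐ[k] K ⊗[k] C).comp x)
    (Algebra.TensorProduct.includeRight : C →ₐ[k] K ⊗[k] C)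
  rw [← h3] at h4
  have h5 : specMap k ((Φ a e x).restrictScalars k) ≫ specMap k Algebra.TensorProduct.includeRight =
      sm a ((specMap k (Algebra.TensorProduct.includeRight : C →ₐ[k] K ⊗[k] C) ≫ e.hom)⁻¹)
        (specMap k ((Algebra.TensorProduct.includeLeft : K →ₐ[k] K ⊗[k] C).comp x) ≫ (ε X).hom) ≫ (ε X).inv := by
    rw [← specMap_comp, h2, ← h4, lift_r]
  have h6 : specMap k ((Φ a e x).restrictScalars k) ≫ specMap k Algebra.TensorProduct.includeLeft =
      specMap k (Algebra.TensorProduct.includeLeft : K →ₐ[k] K ⊗[k] C) := by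
    rw [← specMap_comp, h1]
  apply CartesianMonoidalCategory.hom_ext
  · have h7 : (i2 (X := X) (K := K)).hom ≫ fst _ _ = specMap k Algebra.TensorProduct.includeRight ≫ (ε X).hom := by
      change (c k K _ ≫ _ ◁ (ε X).hom ≫ (β_ _ _).hom) ≫ _ = _
      rw [Category.assoc, Category.assoc, braiding_hom_fst, whiskerLeft_snd, c, lift_snd_assoc]
    rw [Category.assoc, h7, ← Category.assoc, h5, Category.assoc, Iso.inv_hom_id, Category.comp_id, Category.assoc,
      GIT.psi, lift_fst, i1, sm, specMap_comp, pnt, lift_whiskerLeft_assoc,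
      Category.assoc]
  · have h7 : (i2 (X := X) (K := K)).hom ≫ snd _ _ = specMap k Algebra.TensorProduct.includeLeft := by
      change (c k K _ ≫ _ ◁ (ε X).hom ≫ (β_ _ _).hom) ≫ _ = _
      rw [Category.assoc, Category.assoc, braiding_hom_snd, whiskerLeft_fst, c, lift_fst]
    rw [Category.assoc, h7, h6, Category.assoc, GIT.psi, lift_snd, i1, lift_snd]

end Act

section Pt

variable {k : Type u} [Field k] {G X : Over (Spec (CommRingCat.of k))} [GrpObj G] [IsAffine G.left] [IsAffine X.left]
  [LocallyOfFiniteType G.hom] [LocallyOfFiniteType X.hom]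
  (a : AlgGrp.Action G X)

theorem affine_tensor (Y Z : Over (Spec (CommRingCat.of k))) [IsAffine Y.left] [IsAffine Z.left] :
    IsAffine (Y ⊗ Z).left := inferInstanceAs (IsAffine (pullback Y.hom Z.hom))

/-- orbit maps of geometric points are proper if the action is closed with finite stabilisers -/
theorem isProper_psi_pt (hcl : GIT.IsClosedAction a)
    [LocallyQuasiFinite (Limits.pullback.snd (GIT.psi a (𝟙 X)).left (lift (𝟙 X) (𝟙 X)).left)]
    {K : Type u} [Field K] [IsAlgClosed K] [Algebra k K] (f : SpecOver k K ⟶ X) : IsProper (GIT.psi a f).left := by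
  let T : Over (Spec (CommRingCat.of k)) := SpecOver k K
  have : IsAffine T.left := inferInstanceAs (IsAffine (Spec (CommRingCat.of K)))
  have hG : LocallyOfFiniteType (Red.bc T.hom G).hom :=
    inferInstanceAs (LocallyOfFiniteType (pullback.snd G.hom T.hom))
  have hG' : QuasiCompact (Red.bc T.hom G).hom := by
    have : QuasiCompact G.hom := inferInstance
    exact inferInstanceAs (QuasiCompact (pullback.snd G.hom T.hom))
  have hX : LocallyOfFiniteType (Red.bc T.hom X).hom :=
    inferInstanceAs (LocallyOfFiniteType (pullback.snd X.hom T.hom))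
  have hX' : QuasiCompact (Red.bc T.hom X).hom := by
    have : QuasiCompact X.hom := inferInstance
    exact inferInstanceAs (QuasiCompact (pullback.snd X.hom T.hom))
  rw [← K689.StabBC.orbitMap_left a f]
  refine @K686.OrbProper.isProper_orbitMap K _ _ (Red.bc T.hom G) (Red.bc T.hom X)
    (inferInstance : @GrpObj (Over T.left) _ _ (Red.bc T.hom G)) hG hG' hX hX'
    (K689.StabBC.bact T a) (K689.StabBC.bpt f) ?_ ?_
  · have h1 := hcl K T (Iso.refl _) f
    have h2 : IsClosed (Set.range ((K689.StabBC.bact T a).orbitMap (K689.StabBC.bpt f)).left) := by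
      rw [K689.StabBC.orbitMap_left a f]
      exact h1
    exact h2
  · have h1 : IsProper (pullback.snd (GIT.psi a f).left (lift f (𝟙 T)).left) := by
      have key : ∀ f' : T ⟶ X, f' = f ≫ 𝟙 X → LocallyQuasiFinite (GLinSh.stabTo a f') := by
        rintro _ rfl
        obtain ⟨m, hm⟩ := K689.StabBC.exists_isPullback_stab a (𝟙 X) f
        exact MorphismProperty.of_isPullback (P := @LocallyQuasiFinite) hm
          (inferInstanceAs (LocallyQuasiFinite (Limits.pullback.snd (GIT.psi a (𝟙 X)).left (lift (𝟙 X) (𝟙 X)).left)))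
      have h2 : LocallyQuasiFinite (GLinSh.stabTo a f) := key f (Category.comp_id f).symm
      have h3 : LocallyQuasiFinite (pullback.snd (GIT.psi a f).left (lift f (𝟙 T)).left) := h2
      have h4 := affine_tensor G T
      have h5 := affine_tensor X T
      have h6 : QuasiCompact (GIT.psi a f).left := inferInstance
      have h7 : QuasiCompact (pullback.snd (GIT.psi a f).left (lift f (𝟙 T)).left) := inferInstance
      have h8 : IsLocallyArtinian T.left := inferInstanceAs (IsLocallyArtinian (Spec (CommRingCat.of K)))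
      have h9 : IsFinite (pullback.snd (GIT.psi a f).left (lift f (𝟙 T)).left) := IsFinite.of_locallyQuasiFinite _
      infer_instance
    have h2 : pullback.snd ((K689.StabBC.bact T a).orbitMap (K689.StabBC.bpt f)).left (K689.StabBC.bpt f).left =
        (pullback.congrHom (K689.StabBC.orbitMap_left a f) (K689.StabBC.bpt_left f)).hom ≫
          pullback.snd (GIT.psi a f).left (lift f (𝟙 T)).left := by
      rw [pullback.congrHom_hom]
      exact ((pullback.lift_snd _ _ _).trans (Category.comp_id _)).symm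
    have h3 : IsProper (pullback.snd ((K689.StabBC.bact T a).orbitMap (K689.StabBC.bpt f)).left
        (K689.StabBC.bpt f).left) := by
      rw [h2]
      exact (MorphismProperty.cancel_left_of_respectsIso (P := @IsProper) _ _).mpr h1
    exact h3

end Pt

section Main

variable {k : Type u} [Field k] {G X : Over (Spec (CommRingCat.of k))} [GrpObj G] [IsAffine X.left]
  (a : AlgGrp.Action G X) {C : Type u} [CommRing C] [HopfAlgebra k C] (e : SpecOver k C ≅ G)
  {K : Type u} [CommRing K] [Algebra k K] (x : Γ(X.left, ⊤) →ₐ[k] K)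

theorem prop_Φ (P : MorphismProperty Scheme.{u}) [P.RespectsIso] :
    P (Spec.map (CommRingCat.ofHom (Φ a e x).toRingHom)) ↔ P (GIT.psi a (pnt x)).left := by
  have h1 := congrArg (fun t => t.left) (specMap_Φ a e x)
  have h2 : IsIso (i1 (K := K) e).left := inferInstanceAs (IsIso ((Over.forget _).map (i1 (K := K) e)))
  have h3 : IsIso (i2 (X := X) (K := K)).hom.left :=
    inferInstanceAs (IsIso ((Over.forget _).map (i2 (X := X) (K := K)).hom))
  have h4 : Spec.map (CommRingCat.ofHom (Φ a e x).toRingHom) ≫ (i2 (X := X) (K := K)).hom.left =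
      (i1 (K := K) e).left ≫ (GIT.psi a (pnt x)).left := h1
  refine (@MorphismProperty.cancel_right_of_respectsIso _ _ P _ _ _ _
    (Spec.map (CommRingCat.ofHom (Φ a e x).toRingHom)) (i2 (X := X) (K := K)).hom.left h3).symm.trans ?_
  rw [h4]
  exact @MorphismProperty.cancel_left_of_respectsIso _ _ P _ _ _ _ (i1 (K := K) e).left (GIT.psi a (pnt x)).left h2

theorem isIntegral_Φ_iff : (Φ a e x).toRingHom.IsIntegral ↔ IsIntegralHom (GIT.psi a (pnt x)).left := by
  rw [← prop_Φ a e x (P := @IsIntegralHom), IsIntegralHom.SpecMap_iff]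
  rfl

end Main

end K653.SpecPsi
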